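import Cfsg.Agent.CharNoDiv.Frame
import Mathlib.GroupTheory.Nilpotent
import Mathlib.GroupTheory.Sylow

/-!
# Groups with no divisibility among the nonlinear degrees: abelian quotient by the normal complement

`degrees_eq_of_auto`: with an automorphism fixing all nonlinear characters and moving linear
ones, all nonlinear degrees are equal.
-/

set_option autoImplicit false

namespace Cfsg.Agent.CharNoDiv

open Cfsg.Agent.Char Cfsg.Agent.RelDeg
open scoped commutatorElement

universe u

noncomputable local instance (priority := 100000) linGroupA {H : Type*} [Group H] {K : Subgroup H} :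
    CommGroup (K →* ℂˣ) := MonoidHom.instCommGroup

variable {X : Type u} [Group X] [Finite X] {C I : Subgroup X} {τ : MulAut X} {f : ℕ}

/-- If the derived subgroup is nonabelian, the moving subgroup is small. -/
theorem Frame.card_moveSub_sq [Group.IsSolvable X] (F : Frame C I τ f) (hnd : NoDiv X)
    (hI : ∃ χ : Cfsg.IrrCharacter X, deg χ = I.index)
    (hna : commutator (commutator X) ≠ ⊥) :
    (Nat.card (moveSub F) + 1) ^ 2 ≤ Nat.card (commutator X →* ℂˣ) := by
  classical
  haveI := Fintype.ofFinite X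
  haveI := Fintype.ofFinite (commutator X)
  haveI := F.finite_hom
  have hI1 : I ≠ ⊤ := fun h => by
    obtain ⟨b, hb, hbτ⟩ := F.moved
    exact hbτ (F.fixI b hb (h ▸ Subgroup.mem_top b))
  -- the nonlinear characters of the derived subgroup vanish outside the second one
  have hvan : ∀ w : commutator X, w ∉ commutator (commutator X) →
      Nat.card (Subgroup.centralizer ({w} : Set (commutator X))) =
        (commutator (commutator X)).index := by
    intro w hw
    refine card_centralizer_of_vanish fun θ hθ => ?_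
    obtain ⟨l, hl⟩ := exists_hom_ne_one hw
    have h := congrFun (twist_eq (fun g h => mem_comm) hnd hI hI1
      (fun g hg l h => F.free hg h) θ hθ l) w
    exact by_contra fun h0 => hl ((mul_eq_left₀ h0).1 h)
  -- nilpotency
  obtain ⟨b, hb, hbτ⟩ := F.moved
  have hU : moveSub F ≠ ⊥ := fun h => hbτ (mul_inv_eq_one.1 (Subgroup.mem_bot.1
    (h ▸ F.mem_moveSub.2 ⟨b, hb, rfl⟩)))
  obtain ⟨p, hp, hpU⟩ := Nat.exists_prime_and_dvd (n := Nat.card (moveSub F))
    fun h => hU (Subgroup.card_eq_one.1 h)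
  haveI := Fact.mk hp
  obtain ⟨y, hy⟩ := exists_prime_orderOf_dvd_card' p hpU
  have hy1 : (y : X) ≠ 1 := fun h => by
    rw [OneMemClass.coe_eq_one] at h
    rw [h, orderOf_one] at hy
    exact hp.ne_one hy.symm
  haveI hnil : Group.IsNilpotent (commutator X) := by
    refine FixedPointFree.isNilpotent_of_fpf hp (c := (y : X)) ?_ ?_ inferInstance ?_
    · rw [← SubmonoidClass.coe_pow, ← hy, pow_orderOf_eq_one, OneMemClass.coe_one]
    · rw [Subgroup.normalizer_eq_top]; exact Subgroup.mem_top _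
    · rw [eq_bot_iff]
      rintro l ⟨hl, hlc⟩
      exact Subgroup.mem_bot.2 (F.fpf y.2 hy1 l hl
        (Subgroup.mem_centralizer_singleton_iff.1 hlc).symm)
  -- the top central section
  set L₁ := commutator (commutator X) with hL₁
  set Y := ⁅L₁, (⊤ : Subgroup (commutator X))⁆ with hY
  have hYL : ¬ L₁ ≤ Y := fun h => hna <| le_bot_iff.1 <| by
    obtain ⟨n, hn⟩ := Subgroup.nilpotent_iff_lowerCentralSeries.1 hnil
    have : ∀ k, L₁ ≤ (⊤ : Subgroup (commutator X)).lowerCentralSeries k := fun k => by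
      induction k with
      | zero => exact le_top
      | succ k ih =>
        rw [Subgroup.lowerCentralSeries_succ]
        exact h.trans (Subgroup.commutator_mono ih le_rfl)
    exact hn ▸ this n
  haveI : Y.Normal := Subgroup.commutator_normal L₁ ⊤
  let Z := L₁.map (QuotientGroup.mk' Y)
  have hcent : ∀ z ∈ L₁, ∀ a : commutator X,
      ((a * z * a⁻¹ : commutator X) : commutator X ⧸ Y) = (z : commutator X ⧸ Y) := fun z hz a => by
    rw [QuotientGroup.eq]
    have := Y.inv_mem ((inferInstance : Y.Normal).conj_mem _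
      (Subgroup.commutator_mem_commutator (L₁.inv_mem hz) (Subgroup.mem_top a)) (1 : commutator X))
    have h2 := Subgroup.commutator_mem_commutator (H₂ := (⊤ : Subgroup (commutator X)))
      (L₁.inv_mem hz) (Subgroup.mem_top a)
    have h3 : (a * z * a⁻¹)⁻¹ * z = a * z⁻¹ * a⁻¹ * z := by group
    rw [h3]
    have h4 : a * z⁻¹ * a⁻¹ * z = ⁅z⁻¹, a⁆⁻¹ := by rw [commutatorElement_def]; group
    rw [h4]
    exact Y.inv_mem h2
  let ρ : commutator X → commutator X →* commutator X ⧸ Y := fun w =>
    MonoidHom.mk' (fun a => ((⁅a, w⁆ : commutator X) : commutator X ⧸ Y)) fun a c => by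
      have h1 : ⁅a * c, w⁆ = a * ⁅c, w⁆ * a⁻¹ * ⁅a, w⁆ := by
        simp only [commutatorElement_def]; group
      show ((⁅a * c, w⁆ : commutator X) : commutator X ⧸ Y) = _
      rw [h1, QuotientGroup.mk_mul, hcent _ (Subgroup.commutator_mem_commutator trivial trivial),
        ← QuotientGroup.mk_mul, ← hcent ⁅c, w⁆ (Subgroup.commutator_mem_commutator trivial trivial)
          ⁅a, w⁆⁻¹]
      rw [← QuotientGroup.mk_mul]
      congr 1
      group
  obtain ⟨w, hw⟩ : ∃ w : commutator X, w ∉ L₁ := by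
    by_contra! h
    haveI : Nontrivial (commutator X) := by
      obtain ⟨l, hl⟩ := F.lin
      by_contra hs
      rw [not_nontrivial_iff_subsingleton] at hs
      exact hl (MonoidHom.ext fun x => by rw [Subsingleton.elim x 1, map_one, map_one])
    exact (Group.IsSolvable.commutator_lt_top_of_nontrivial (commutator X)).ne
      (eq_top_iff.2 fun x _ => h x)
  have hrange : (ρ w).range = Z := by
    refine le_antisymm ?_ ?_
    · rintro _ ⟨a, rfl⟩
      exact ⟨⁅a, w⁆, Subgroup.commutator_mem_commutator trivial trivial, rfl⟩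
    · rintro _ ⟨z, hz, rfl⟩
      obtain ⟨a, ha⟩ := class_eq_coset (hvan w hw) hz
      refine ⟨a, ?_⟩
      show ((⁅a, w⁆ : commutator X) : commutator X ⧸ Y) = (z : commutator X ⧸ Y)
      rw [commutatorElement_def, ha, mul_inv_cancel_right]
  have hker : L₁ ≤ (ρ w).ker := fun z hz => by
    show ((⁅z, w⁆ : commutator X) : commutator X ⧸ Y) = 1
    rw [QuotientGroup.eq_one_iff]
    exact Subgroup.commutator_mem_commutator hz (Subgroup.mem_top w)
  have hwker : w ∈ (ρ w).ker := by
    show ((⁅w, w⁆ : commutator X) : commutator X ⧸ Y) = 1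
    rw [commutatorElement_self, QuotientGroup.mk_one]
  set R := L₁.relIndex (ρ w).ker with hR
  have hR1 : R ≠ 1 := fun h => hw (Subgroup.relIndex_eq_one.1 h hwker)
  have hΛ : Nat.card (commutator X →* ℂˣ) = R * Nat.card Z := by
    rw [card_hom_eq_index, ← Subgroup.relIndex_mul_index hker, Subgroup.index_ker, hrange]
  have hZ1 : Nat.card Z ≠ 1 := fun h => hYL fun z hz => by
    have h1 : (QuotientGroup.mk' Y) z ∈ Z := ⟨z, hz, rfl⟩
    rw [Subgroup.card_eq_one.1 h, Subgroup.mem_bot] at h1
    exact (QuotientGroup.eq_one_iff z).1 h1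
  -- the two free actions
  have hYinv : ∀ g : X, ∀ m ∈ Y, (MulAut.conjNormal g : MulAut (commutator X)) m ∈ Y := by
    intro g m hm
    have h1 : Y.map (MulAut.conjNormal g : MulAut (commutator X)).toMonoidHom = Y := by
      simp only [hY, hL₁, commutator_def (G := ↥(commutator X)), Subgroup.map_commutator,
        Subgroup.map_top_of_surjective (MulAut.conjNormal g : MulAut (commutator X)).toMonoidHom
          (MulAut.conjNormal g : MulAut (commutator X)).surjective]
    exact h1.le ⟨m, hm, rfl⟩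
  have hL₁inv : ∀ g : X, ∀ m ∈ L₁, (MulAut.conjNormal g : MulAut (commutator X)) m ∈ L₁ := by
    intro g m hm
    have h1 : L₁.map (MulAut.conjNormal g : MulAut (commutator X)).toMonoidHom = L₁ := by
      simp only [hL₁, commutator_def (G := ↥(commutator X)), Subgroup.map_commutator,
        Subgroup.map_top_of_surjective (MulAut.conjNormal g : MulAut (commutator X)).toMonoidHom
          (MulAut.conjNormal g : MulAut (commutator X)).surjective]
    exact h1.le ⟨m, hm, rfl⟩
  have hdZ : Nat.card (moveSub F) ∣ Nat.card Z - 1 := by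
    let β : moveSub F → commutator X ⧸ Y →* commutator X ⧸ Y := fun u =>
      QuotientGroup.map Y Y (MulAut.conjNormal (u : X) : MulAut (commutator X)).toMonoidHom
        fun m hm => hYinv u m hm
    have hβ : ∀ u, ∀ z ∈ Z, β u z ∈ Z := by
      rintro u _ ⟨z, hz, rfl⟩
      exact ⟨_, hL₁inv u z hz, rfl⟩
    refine card_dvd_pred (A := Z) 1 (fun u z => ⟨β u z, hβ u z z.2⟩) ?_ ?_ ?_ ?_
    · rintro ⟨_, z, hz, rfl⟩
      refine Subtype.ext ?_
      show ((((MulAut.conjNormal ((1 : moveSub F) : X) : MulAut (commutator X)) z) :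
        commutator X) : commutator X ⧸ Y) = (z : commutator X ⧸ Y)
      simp
    · rintro u v ⟨_, z, hz, rfl⟩
      refine Subtype.ext ?_
      show ((((MulAut.conjNormal ((u * v : moveSub F) : X) : MulAut (commutator X)) z) :
        commutator X) : commutator X ⧸ Y) = ((((MulAut.conjNormal (u : X) : MulAut (commutator X))
          ((MulAut.conjNormal (v : X) : MulAut (commutator X)) z)) : commutator X) : commutator X ⧸ Y)
      rw [Subgroup.coe_mul, map_mul]
      rfl
    · exact fun u => Subtype.ext (map_one (β u))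
    · rintro u ⟨_, z, hz, rfl⟩ hne hfix
      by_contra hu
      have hu1 : (u : X) ≠ 1 := fun h => hu (Subtype.ext h)
      have h1 : ((((MulAut.conjNormal (u : X) : MulAut (commutator X)) z) : commutator X) :
          commutator X ⧸ Y) = (z : commutator X ⧸ Y) := congrArg Subtype.val hfix
      have h2 : (MulAut.conjNormal (u : X) : MulAut (commutator X)) z * z⁻¹ ∈ Y := by
        rw [← QuotientGroup.eq_one_iff, QuotientGroup.mk_mul, h1, QuotientGroup.mk_inv,
          mul_inv_cancel]
      obtain ⟨_, ⟨m, hm, rfl⟩, hmeq⟩ := fpf_surjective (Y := Y.map (commutator X).subtype)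
        (y := (u : X)) (by rintro _ ⟨m, hm, rfl⟩; exact ⟨_, hYinv u m hm, rfl⟩)
        (fun l hl h => F.fpf u.2 hu1 l (by
          obtain ⟨m, -, rfl⟩ := hl
          exact m.2) h) ⟨_, h2, rfl⟩
      refine hne (Subtype.ext ?_)
      show (z : commutator X ⧸ Y) = 1
      rw [QuotientGroup.eq_one_iff]
      have h3 : (m : commutator X)⁻¹ * z = 1 := by
        refine Subtype.ext (F.fpf u.2 hu1 _ (m⁻¹ * z).2 ?_)
        have e : (u : X) * m * (u : X)⁻¹ * (m : X)⁻¹ = (u : X) * z * (u : X)⁻¹ * (z : X)⁻¹ := hmeq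
        show (u : X) * ((m : X)⁻¹ * z) = (m : X)⁻¹ * z * u
        calc (u : X) * ((m : X)⁻¹ * z)
            = (m : X)⁻¹ * ((u : X) * m * (u : X)⁻¹ * (m : X)⁻¹)⁻¹ *
              ((u : X) * z * (u : X)⁻¹ * (z : X)⁻¹) * z * u := by group
          _ = (m : X)⁻¹ * z * u := by rw [e]; group
      rwa [← inv_mul_eq_one.1 h3]
  have hdΛ : Nat.card (moveSub F) ∣ Nat.card (commutator X →* ℂˣ) - 1 := by
    refine card_dvd_pred (A := commutator X →* ℂˣ) 1 (fun u l => cj ((u : X))⁻¹ l) ?_ ?_ ?_ ?_
    · intro l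
      show cj _ l = l
      rw [OneMemClass.coe_one, inv_one, cj_one']
    · intro u v l
      show cj _ l = cj _ (cj _ l)
      rw [cj_cj, Subgroup.coe_mul, mul_inv_rev]
    · exact fun u => rfl
    · intro u l hl h
      by_contra hu
      exact hl (F.free (fun hI => hu (Subtype.ext
        (F.eq_one_of_mem u.2 (by simpa using I.inv_mem hI)))) h)
  -- arithmetic
  set n := Nat.card (moveSub F)
  have hR0 : 0 < R := Nat.pos_of_ne_zero fun h => by
    have := Nat.card_pos (α := (commutator X →* ℂˣ))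
    rw [hΛ, h, Nat.zero_mul] at this
    omega
  have hZ0 : 0 < Nat.card Z := Nat.card_pos
  have hdR : n ∣ R - 1 := by
    rw [hΛ] at hdΛ
    have h1 : Nat.card Z ≡ 1 [MOD n] := ((Nat.modEq_iff_dvd' hZ0).2 hdZ).symm
    have h2 : R * Nat.card Z ≡ 1 [MOD n] :=
      ((Nat.modEq_iff_dvd' (Nat.mul_pos hR0 hZ0)).2 hdΛ).symm
    refine (Nat.modEq_iff_dvd' hR0).1 (Nat.ModEq.symm ?_)
    calc R = R * 1 := (mul_one R).symm
      _ ≡ R * Nat.card Z [MOD n] := h1.symm.mul_left R
      _ ≡ 1 [MOD n] := h2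
  have h3 := Nat.le_of_dvd (by omega) hdR
  have h4 := Nat.le_of_dvd (by omega) hdZ
  rw [hΛ, sq]
  exact Nat.mul_le_mul (by omega) (by omega)

/-- Normalisation of the automorphism with respect to an abelian complement. -/
theorem exists_normalized {C : Subgroup X} {x₀ : X} {q : ℕ} [Fact q.Prime]
    (hC : AbCompl (commutator X) C) (hx₀ : C = Subgroup.centralizer ({x₀} : Set X))
    {i : ℕ} (hq : x₀ ^ q ^ i = 1) (hCq : ¬ q ∣ C.index) (σ : MulAut X) :
    ∃ n : X, ∀ b ∈ C, (MulAut.conj n * σ) b ∈ C := by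
  have hx₀C : x₀ ∈ C := hx₀ ▸ Subgroup.mem_centralizer_singleton_iff.2 rfl
  obtain ⟨k, -, hk⟩ := (Nat.dvd_prime_pow Fact.out).1 (orderOf_dvd_of_pow_eq_one hq)
  have hpz : IsPGroup q (Subgroup.zpowers (⟨x₀, hx₀C⟩ : C)) :=
    IsPGroup.of_card (n := k) (by rw [Nat.card_zpowers, Subgroup.orderOf_mk]; exact hk)
  obtain ⟨Q, hQ⟩ := hpz.exists_le_sylow
  let P : Sylow q X := Sylow.ofCard ((Q : Subgroup C).map C.subtype) (by
    rw [Subgroup.card_map_of_injective C.subtype_injective, Q.card_eq_multiplicity,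
      ← C.card_mul_index, Nat.factorization_mul Nat.card_pos.ne' Subgroup.index_ne_zero_of_finite,
      Finsupp.add_apply, Nat.factorization_eq_zero_of_not_dvd hCq, add_zero])
  have hPC : ∀ p ∈ (P : Subgroup X), p ∈ C := by
    rintro _ ⟨p, -, rfl⟩
    exact p.2
  have hx₀P : x₀ ∈ (P : Subgroup X) := ⟨⟨x₀, hx₀C⟩, hQ (Subgroup.mem_zpowers _), rfl⟩
  let S : Sylow q X := Sylow.ofCard ((P : Subgroup X).map σ.toMonoidHom) (by
    rw [Subgroup.card_map_of_injective σ.injective, P.card_eq_multiplicity])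
  obtain ⟨n, hn⟩ := MulAction.exists_smul_eq X S P
  refine ⟨n, fun b hb => ?_⟩
  rw [hx₀, Subgroup.mem_centralizer_singleton_iff]
  have h1 : x₀ ∈ ((n • S : Sylow q X) : Subgroup X) := hn ▸ hx₀P
  rw [Sylow.smul_def] at h1
  obtain ⟨_, ⟨p, hp, rfl⟩, hpe⟩ := h1
  have hpe' : (MulAut.conj n * σ) p = x₀ := hpe
  rw [← hpe', ← map_mul, ← map_mul, hC.comm b hb p (hPC p hp)]

end Cfsg.Agent.CharNoDiv
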