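import Cfsg.Agent.CharNoDiv.Abelian

/-!
# Groups with no divisibility among the nonlinear degrees: equal degrees from an automorphism
-/

set_option autoImplicit false

namespace Cfsg.Agent.CharNoDiv

open Cfsg.Agent.Char Cfsg.Agent.RelDeg
open scoped commutatorElement

universe u

noncomputable local instance (priority := 100000) linGroupM {H : Type*} [Group H] {K : Subgroup H} :
    CommGroup (K →* ℂˣ) := MonoidHom.instCommGroup

variable {X : Type u} [Group X] [Finite X]

theorem fixed_of_coprime_pow {σ : MulAut X} {b : X} {c f : ℕ} (hcop : c.Coprime f)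
    (hc : (σ ^ c) b = b) (hf : (σ ^ f) b = b) : σ b = b := by
  have h1 : σ ^ c ∈ MulAction.stabilizer (MulAut X) b := hc
  have h2 : σ ^ f ∈ MulAction.stabilizer (MulAut X) b := hf
  have h3 : σ = (σ ^ c) ^ Nat.gcdA c f * (σ ^ f) ^ Nat.gcdB c f := by
    rw [← zpow_natCast σ c, ← zpow_natCast σ f, ← zpow_mul, ← zpow_mul, ← zpow_add,
      ← Nat.gcd_eq_gcd_ab, hcop.gcd_eq_one, Nat.cast_one, zpow_one]
  have h4 : σ ∈ MulAction.stabilizer (MulAut X) b := by
    rw [h3]
    exact mul_mem (zpow_mem h1 _) (zpow_mem h2 _)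
  exact h4

/-- An abelian complement to the derived subgroup from a moved element of prime power order. -/
theorem exists_compl {σ : MulAut X}
    (hinv : ∀ χ : Cfsg.IrrCharacter X, (χ : X → ℂ) 1 ≠ 1 → ∀ x, (χ : X → ℂ) (σ x) = (χ : X → ℂ) x)
    {q i : ℕ} (hq : q.Prime) (hqL : ¬ q ∣ Nat.card (commutator X)) {x₀ : X}
    (hx₀ : x₀ ^ q ^ i = 1) (hmoved : σ x₀ * x₀⁻¹ ∉ commutator X) :
    AbCompl (commutator X) (Subgroup.centralizer ({x₀} : Set X)) ∧
      Nat.card (Subgroup.centralizer ({x₀} : Set X)) = (commutator X).index ∧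
      ¬ q ∣ (Subgroup.centralizer ({x₀} : Set X)).index := by
  set C := Subgroup.centralizer ({x₀} : Set X) with hC
  have hcard : Nat.card C = (commutator X).index :=
    card_centralizer_of_vanish fun χ hχ => vanish_of_moved hinv hmoved χ hχ
  have hinf : ∀ a ∈ C, a ∈ commutator X → a = 1 := by
    intro a ha hal
    have hax : Commute a x₀ := Subgroup.mem_centralizer_singleton_iff.1 ha
    obtain ⟨c, hc⟩ := class_eq_coset hcard hal
    have h1 : a ^ q ^ i = 1 := by
      have h2 := congrArg (fun z => z ^ q ^ i) hc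
      rw [conj_pow, hx₀, mul_one, mul_inv_cancel, hax.mul_pow, hx₀, mul_one] at h2
      exact h2.symm
    have h3 : orderOf a ∣ Nat.card (commutator X) := Subgroup.orderOf_coe (⟨a, hal⟩ : commutator X) ▸
      orderOf_dvd_natCard _
    exact orderOf_eq_one_iff.1 (Nat.eq_one_of_dvd_coprimes
      (Nat.Coprime.pow_left i (hq.coprime_iff_not_dvd.2 hqL)) (orderOf_dvd_of_pow_eq_one h1) h3)
  have hcompl : Subgroup.IsComplement' (commutator X) C := by
    refine Subgroup.isComplement'_of_card_mul_and_disjoint ?_ (Subgroup.disjoint_def.2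
      fun {a} h1 h2 => hinf a h2 h1)
    rw [hcard, (commutator X).card_mul_index]
  refine ⟨⟨fun a ha b hb => commutatorElement_eq_one_iff_mul_comm.1 (hinf _ ?_
    (Subgroup.commutator_mem_commutator trivial trivial)), hinf, fun x => ?_⟩, hcard, ?_⟩
  · rw [commutatorElement_def]
    exact C.mul_mem (C.mul_mem (C.mul_mem ha hb) (C.inv_mem ha)) (C.inv_mem hb)
  · obtain ⟨⟨l, c⟩, hlc, -⟩ := hcompl.existsUnique x
    exact ⟨c, c.2, by rw [← hlc]; simp⟩
  · rwa [hcompl.index_eq_card]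

/-- If an automorphism of coprime order modulo inner ones fixes all nonlinear characters and
moves a linear one of `q`-power order, and the derived subgroup is a `q'`-group, then there is
only one nonlinear degree. -/
theorem degrees_eq_of_auto [Group.IsSolvable X] (hnd : NoDiv X) {σ : MulAut X} {f q : ℕ}
    (hq : q.Prime) (hinn : ∃ n : X, σ ^ f = MulAut.conj n)
    (hinv : ∀ χ : Cfsg.IrrCharacter X, (χ : X → ℂ) 1 ≠ 1 → ∀ x, (χ : X → ℂ) (σ x) = (χ : X → ℂ) x)
    (hcop : ∀ χ : Cfsg.IrrCharacter X, 1 < deg χ → (deg χ).Coprime f)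
    (hmoved : ∃ l : X →* ℂˣ, l ^ q = 1 ∧ ∃ x, l (σ x) ≠ l x)
    (hqL : ¬ q ∣ Nat.card (commutator X)) (φ ψ : Cfsg.IrrCharacter X) (hφ : 1 < deg φ)
    (hψ : 1 < deg ψ) : deg φ = deg ψ := by
  classical
  haveI := Fintype.ofFinite X
  haveI := Fintype.ofFinite (commutator X)
  haveI := Fact.mk hq
  obtain ⟨l, hlq, x, hlx⟩ := hmoved
  -- a moved element of `q`-power order
  obtain ⟨i, m, hm, him⟩ := Nat.exists_eq_pow_mul_and_not_dvd
    (Nat.card_pos (α := X)).ne' q hq.ne_one
  have hx₀ : (x ^ m) ^ q ^ i = 1 := by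
    rw [← pow_mul, mul_comm, ← him, pow_card_eq_one']
  have hlx₀ : l (σ (x ^ m)) ≠ l (x ^ m) := by
    intro h
    rw [map_pow, map_pow, map_pow] at h
    apply hlx
    rw [← mul_inv_eq_one] at h ⊢
    rw [← inv_pow, ← mul_pow] at h
    have h2 : (l (σ x) * (l x)⁻¹) ^ q = 1 := by
      rw [mul_pow, inv_pow, ← MonoidHom.pow_apply, ← MonoidHom.pow_apply, hlq,
        MonoidHom.one_apply, MonoidHom.one_apply, inv_one, one_mul]
    have h3 := pow_gcd_eq_one.2 ⟨h2, h⟩
    rwa [(hq.coprime_iff_not_dvd.2 hm).gcd_eq_one, pow_one] at h3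
  set x₀ := x ^ m
  obtain ⟨hC, hCcard, hCq⟩ := exists_compl hinv hq hqL hx₀ (fun h => hlx₀ (by
    have := hom_commutator_eq_one l h
    rwa [map_mul, map_inv, mul_inv_eq_one] at this))
  set C := Subgroup.centralizer ({x₀} : Set X) with hCdef
  obtain ⟨n, hn⟩ := exists_normalized hC hCdef hx₀ hCq σ
  set σ₁ := MulAut.conj n * σ with hσ₁
  have hinv₁ : ∀ χ : Cfsg.IrrCharacter X, (χ : X → ℂ) 1 ≠ 1 → ∀ y,
      (χ : X → ℂ) (σ₁ y) = (χ : X → ℂ) y := fun χ hχ y => by
    rw [hσ₁, MulAut.mul_apply, MulAut.conj_apply, isClassFunction_of_isIrr χ.2, hinv χ hχ]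
  obtain ⟨n₁, hn₁⟩ : ∃ n₁ : X, σ₁ ^ f = MulAut.conj n₁ := by
    obtain ⟨k, hk⟩ := hinn
    obtain ⟨j, hj⟩ := exists_conj_mul_pow σ n f
    exact ⟨j * k, by rw [hσ₁, hj, hk, map_mul]⟩
  have hx₀C : x₀ ∈ C := Subgroup.mem_centralizer_singleton_iff.2 rfl
  have hpowC : ∀ k : ℕ, ∀ b ∈ C, (σ₁ ^ k) b ∈ C := fun k => by
    induction k with
    | zero => intro b hb; simpa using hb
    | succ k ih =>
      intro b hb
      rw [pow_succ', MulAut.mul_apply]
      exact hn _ (ih b hb)
  have hn₁C : n₁ ∈ C := by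
    have h1 : n₁ * x₀ * n₁⁻¹ ∈ C := by
      rw [← MulAut.conj_apply, ← hn₁]; exact hpowC f x₀ hx₀C
    have h2 := hC.inf _ (C.mul_mem h1 (C.inv_mem hx₀C)) mem_comm
    rw [mul_inv_eq_one, mul_inv_eq_iff_eq_mul] at h2
    exact Subgroup.mem_centralizer_singleton_iff.2 h2
  have hfC : ∀ b ∈ C, (σ₁ ^ f) b = b := fun b hb => by
    rw [hn₁, MulAut.conj_apply, hC.comm n₁ hn₁C b hb, mul_inv_cancel_right]
  have hcentr : ∀ y ∈ C, σ₁ y ≠ y → Subgroup.centralizer ({y} : Set X) = C := by
    intro y hy hne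
    refine (Subgroup.eq_of_le_of_card_ge (fun b hb =>
      Subgroup.mem_centralizer_singleton_iff.2 (hC.comm b hb y hy)) (le_of_eq ?_)).symm
    rw [hCcard]
    refine card_centralizer_of_vanish fun χ hχ => vanish_of_moved hinv₁ (fun h => hne ?_) χ hχ
    exact mul_inv_eq_one.1 (hC.inf _ (C.mul_mem (hn y hy) (C.inv_mem hy)) h)
  obtain ⟨b₀, hb₀, hb₀σ⟩ : ∃ b ∈ C, σ₁ b ≠ b := by
    obtain ⟨b, hb, hbx⟩ := hC.exists_mem x
    refine ⟨b, hb, fun h => hlx ?_⟩
    have h1 : ∀ z, l (σ₁ z) = l (σ z) := fun z => by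
      rw [hσ₁, MulAut.mul_apply, MulAut.conj_apply, map_mul, map_mul, map_inv, mul_right_comm,
        mul_inv_cancel, one_mul]
    have h2 := hom_commutator_eq_one l (apply_mem_comm σ₁ hbx)
    have h3 := hom_commutator_eq_one l hbx
    rw [map_mul, map_inv, h, map_mul, map_inv, mul_inv_eq_one, h1] at h2
    rw [map_mul, map_inv, mul_inv_eq_one] at h3
    rw [h2, h3]
  have hfree₁ : ∀ y ∈ C, σ₁ y ≠ y → ∀ ν : commutator X →* ℂˣ, cj y ν = ν → ν = 1 := by
    intro y hy hne ν hν
    ext z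
    obtain ⟨w, hw, hwz⟩ := fpf_surjective (Y := commutator X) (y := y)
      (fun a ha => (inferInstance : (commutator X).Normal).conj_mem a ha y)
      (fun a ha hay => hC.inf a (by
        rw [← hcentr y hy hne]; exact Subgroup.mem_centralizer_singleton_iff.2 hay.symm) ha) z.2
    have h1 : ν ⟨y * w * y⁻¹, (inferInstance : (commutator X).Normal).conj_mem w hw y⟩ = ν ⟨w, hw⟩ :=
      DFunLike.congr_fun hν ⟨w, hw⟩
    have h2 : z = ⟨y * w * y⁻¹, (inferInstance : (commutator X).Normal).conj_mem w hw y⟩ *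
        (⟨w, hw⟩ : commutator X)⁻¹ := Subtype.ext hwz.symm
    rw [h2, map_mul, map_inv, h1, mul_inv_cancel]
    rfl
  -- the inertia group
  obtain ⟨l₀, hl₀⟩ : ∃ l₀ : commutator X →* ℂˣ, l₀ ≠ 1 := by
    haveI : Nontrivial (commutator X) := by
      rw [Subgroup.nontrivial_iff_ne_bot]
      intro h
      refine (nonlinear_iff φ).2 hφ (IsIrr.degree_one_of_comm φ.2 fun a b =>
        commutatorElement_eq_one_iff_mul_comm.1 (Subgroup.mem_bot.1 (h ▸
          Subgroup.commutator_mem_commutator trivial trivial)))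
    exact Char.exists_linear_ne_one inferInstance
  set I := inertia (lf (commutator X) l₀) with hI
  have htop : ∀ ν : commutator X →* ℂˣ, ν ≠ 1 → inertia (lf (commutator X) ν) ≠ ⊤ :=
    fun ν hν h => hν (hfree₁ b₀ hb₀ hb₀σ ν (mem_inertia_lf.1 (h ▸ Subgroup.mem_top b₀)))
  have hinert : ∀ ν : commutator X →* ℂˣ, ν ≠ 1 → inertia (lf (commutator X) ν) = I := fun ν hν =>
    inertia_eq (fun g h => mem_comm) hnd hC htop hν hl₀
  obtain ⟨χI, hχI⟩ := exists_deg_index hC l₀
  rw [← hI] at hχI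
  have hI1 : 1 < deg χI := by
    have := deg_pos χI
    rw [hχI] at this ⊢
    have : I.index ≠ 1 := fun e => htop l₀ hl₀ (Subgroup.index_eq_one.1 e)
    omega
  have hIcop : I.index.Coprime f := hχI ▸ hcop χI hI1
  haveI hIn : I.Normal := ⟨fun a ha g => by
    rw [show g * a * g⁻¹ = (g * a * g⁻¹ * a⁻¹) * a by group]
    exact I.mul_mem (mem_inertia_lf.2 (cj_of_mem mem_comm l₀)) ha⟩
  have hI_conj : n₁ ^ I.index ∈ I := I.pow_index_mem n₁
  have hF : Frame C I (σ₁ ^ I.index) f :=
    { compl := hC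
      maps := hpowC I.index
      inertia := hinert
      lin := ⟨l₀, hl₀⟩
      pow_f := fun b hb => by
        rw [← pow_mul, mul_comm, pow_mul]
        exact MulAction.mem_stabilizer_iff.1 (pow_mem (show σ₁ ^ f ∈ MulAction.stabilizer (MulAut X) b from
          hfC b hb) I.index)
      act_f := fun ν => by
        rw [← pow_mul, mul_comm, pow_mul, hn₁, ← map_pow, act_conj]
        by_cases hν : ν = 1
        · subst hν; rfl
        exact mem_inertia_lf.1 ((hinert ν hν).symm ▸ I.inv_mem hI_conj)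
      cop := hIcop
      fixI := fun b hb hbI => by
        have h1 : σ₁ b = b := by
          by_contra hne
          exact hl₀ (hfree₁ b hb hne l₀ (mem_inertia_lf.1 hbI))
        exact MulAction.mem_stabilizer_iff.1 (pow_mem (show σ₁ ∈ MulAction.stabilizer (MulAut X) b from h1) _)
      centr := fun y hy hne => hcentr y hy fun h => hne (MulAction.mem_stabilizer_iff.1
        (pow_mem (show σ₁ ∈ MulAction.stabilizer (MulAut X) y from h) _))
      inv := fun χ hχ => by
        intro y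
        induction I.index generalizing y with
        | zero => simp
        | succ k ih => rw [pow_succ, MulAut.mul_apply, ih, hinv₁ χ hχ]
      moved := ⟨b₀, hb₀, fun h => hb₀σ (fixed_of_coprime_pow hIcop h (hfC b₀ hb₀))⟩ }
  by_cases hna : commutator (commutator X) = ⊥
  · -- abelian derived subgroup
    suffices key : ∀ χ : Cfsg.IrrCharacter X, 1 < deg χ → deg χ = I.index by
      rw [key φ hφ, key ψ hψ]
    intro χ hχ
    obtain ⟨θ, hθ⟩ := exists_constituent_res (N := commutator X) χ.2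
    have hθ1 : (θ : commutator X → ℂ) 1 = 1 := degree_one_of_commutator_le_ker θ.2 fun g hg => by
      rw [hna, Subgroup.mem_bot] at hg; rw [hg]
    obtain ⟨ν, hν⟩ := IsChar.exists_hom (IsIrr.isCharacter θ.2) hθ1
    have hν' : (θ : commutator X → ℂ) = lf (commutator X) ν := hν
    rw [hν'] at hθ
    have hν1 : ν ≠ 1 := by
      rintro rfl
      refine (nonlinear_iff χ).2 hχ (degree_one_of_commutator_le_ker χ.2 fun g hg => ?_)
      have hcl := clifford χ.2 (φ := lf (commutator X) 1) (isIrrCharacter_hom _) hθ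
      rw [lf_one, orbit_one] at hcl
      have h1 := congrFun hcl ⟨g, hg⟩
      have h2 := congrFun hcl 1
      simp only [Finset.sum_singleton, Pi.smul_apply, Pi.one_apply, OneMemClass.coe_one] at h1 h2
      rw [h1, h2]
    obtain ⟨e, he⟩ : ∃ e : ℕ, Cfsg.classInner (fun k : commutator X => (χ : X → ℂ) k)
        (lf (commutator X) ν) = e :=
      classInner_isCharacter_eq_natCast
        (isCharacter_res (commutator X) (IsIrr.isCharacter χ.2)) (isCharacter_hom ν)
    have h5 := degree_eq_of_clifford χ.2 (φ := lf (commutator X) ν) (isIrrCharacter_hom ν) hθ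
    rw [he, hinert ν hν1, spec, lf, map_one, Units.val_one, mul_one, ← Nat.cast_mul,
      Nat.cast_inj] at h5
    exact (hnd χI χ hI1 (by rw [hχI, h5]; exact Dvd.intro_left _ rfl)).symm.trans hχI
  · -- the derived subgroup cannot be nonabelian
    exfalso
    haveI := hF.finite_hom
    have h1 := hF.card_le
    have h2 := hF.card_fixed_sq
    have h3 := hF.card_moveSub_sq hnd ⟨χI, hχI⟩ hna
    have hw : 0 < Nat.card {ν : commutator X →* ℂˣ // act (σ₁ ^ I.index) ν = ν} := by
      haveI : Nonempty {ν : commutator X →* ℂˣ // act (σ₁ ^ I.index) ν = ν} := ⟨⟨1, rfl⟩⟩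
      exact Nat.card_pos
    have hu : 0 < Nat.card (moveSub hF) := Nat.card_pos
    generalize Nat.card {ν : commutator X →* ℂˣ // act (σ₁ ^ I.index) ν = ν} = w at h1 h2 hw
    generalize Nat.card (moveSub hF) = u at h1 h3 hu
    generalize Nat.card (commutator X →* ℂˣ) = W at h1 h2 h3
    obtain ⟨v, rfl⟩ : ∃ v, w = v + 1 := ⟨w - 1, by omega⟩
    obtain ⟨V, rfl⟩ : ∃ V, W = V + 1 :=
      Nat.exists_eq_add_of_le' (le_trans (Nat.one_le_pow _ _ (by omega)) h3)
    simp only [Nat.add_sub_cancel] at h1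
    nlinarith

end Cfsg.Agent.CharNoDiv
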