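import Cfsg.Agent.Char.RelDegree
import Cfsg.Agent.Char.DerivedLengthBound
import Cfsg.Agent.Char.Gallagher
import Cfsg.Agent.ProjExt.Criteria
import Cfsg.Agent.Char.NormalAbelianSylow
import Cfsg.Agent.CharArith.Central

/-!
# Groups with no divisibility among the nonlinear degrees: general lemmas

`eq_deg_of_quotient_nonlinear` handles the case of a nonabelian quotient by a normal Hall
subgroup of prime power index.
-/

set_option autoImplicit false

namespace Cfsg.Agent.CharNoDiv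

open Cfsg.Agent.Char
open scoped ComplexConjugate

universe u

variable {X : Type u} [Group X]

/-- The degree of an irreducible character. -/
noncomputable abbrev deg (χ : Cfsg.IrrCharacter X) : ℕ := Cfsg.charDegree (χ : X → ℂ)

/-- No degree other than one properly divides another degree. -/
def NoDiv (X : Type u) [Group X] : Prop :=
  ∀ φ ψ : Cfsg.IrrCharacter X, 1 < deg φ → deg φ ∣ deg ψ → deg φ = deg ψ

variable [Finite X]

theorem spec (χ : Cfsg.IrrCharacter X) : (χ : X → ℂ) 1 = (deg χ : ℂ) := charDegree_spec' χ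

theorem deg_eq {χ : Cfsg.IrrCharacter X} {n : ℕ} (h : (χ : X → ℂ) 1 = n) : deg χ = n :=
  Blocks.charDegree_eq h

theorem deg_pos (χ : Cfsg.IrrCharacter X) : 0 < deg χ := by
  obtain ⟨n, hn0, hn⟩ := IsIrr.degree χ.2
  rw [deg_eq hn]
  exact hn0

theorem nonlinear_iff (χ : Cfsg.IrrCharacter X) : (χ : X → ℂ) 1 ≠ 1 ↔ 1 < deg χ := by
  rw [spec, Ne, Nat.cast_eq_one]
  have := deg_pos χ
  omega

/-- Linear characters separate the cosets of the derived subgroup. -/
theorem exists_hom_ne_one {x : X} (hx : x ∉ commutator X) : ∃ l : X →* ℂˣ, (l x : ℂ) ≠ 1 := by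
  classical
  haveI := Fintype.ofFinite (X ⧸ commutator X)
  obtain ⟨φ, hφ⟩ := exists_irr_ne_at_one (g := ((x : X) : X ⧸ commutator X))
    fun e => hx ((QuotientGroup.eq_one_iff _).1 e)
  obtain ⟨l₀, hl₀⟩ := IsChar.exists_hom (IsIrr.isCharacter φ.2)
    (IsIrr.degree_one_of_comm φ.2 fun a b => by
      obtain ⟨a, rfl⟩ := QuotientGroup.mk_surjective a
      obtain ⟨b, rfl⟩ := QuotientGroup.mk_surjective b
      exact mul_comm (Abelianization.of a) (Abelianization.of b))
  exact ⟨l₀.comp (QuotientGroup.mk' _), fun e => hφ (by rw [hl₀]; simpa using e)⟩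

/-- The linear characters sum to zero against two elements differing modulo the derived
subgroup. -/
theorem sum_linear_eq_zero [Fintype (Cfsg.IrrCharacter X)] {g h : X}
    (hgh : g * h⁻¹ ∉ commutator X) :
    ∑ χ ∈ Finset.univ.filter (fun χ : Cfsg.IrrCharacter X => (χ : X → ℂ) 1 = 1),
      (χ : X → ℂ) g * conj ((χ : X → ℂ) h) = 0 := by
  classical
  obtain ⟨l, hl⟩ := exists_hom_ne_one hgh
  haveI := Fintype.ofFinite X
  have hmul : ∀ (χ : Cfsg.IrrCharacter X) (m : X →* ℂˣ),
      Cfsg.IsIrrCharacter X fun x => (χ : X → ℂ) x * (m x : ℂ) := fun χ m => isIrr_mul_hom χ.2 m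
  set S := Finset.univ.filter fun χ : Cfsg.IrrCharacter X => (χ : X → ℂ) 1 = 1
  set F : Cfsg.IrrCharacter X → ℂ := fun χ => (χ : X → ℂ) g * conj ((χ : X → ℂ) h)
  have hconj : conj (l h : ℂ) = ((l h)⁻¹ : ℂˣ) := by
    rw [← IsChar.inv_eq_conj (χ := fun x => (l x : ℂ)) (isCharacter_hom l) h, map_inv]
  have key : ∑ χ ∈ S, F χ = (l (g * h⁻¹) : ℂ) * ∑ χ ∈ S, F χ := by
    rw [Finset.mul_sum]
    refine Finset.sum_nbij' (fun χ => ⟨_, hmul χ l⁻¹⟩) (fun χ => ⟨_, hmul χ l⟩) ?_ ?_ ?_ ?_ ?_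
    · intro χ hχ
      simp only [S, Finset.coe_filter, Finset.mem_filter, Finset.mem_univ, true_and,
        Set.mem_setOf_eq] at hχ ⊢
      simpa using hχ
    · intro χ hχ
      simp only [S, Finset.coe_filter, Finset.mem_filter, Finset.mem_univ, true_and,
        Set.mem_setOf_eq] at hχ ⊢
      simpa using hχ
    · intro χ _
      refine Subtype.ext (funext fun x => ?_)
      simp [MonoidHom.inv_apply, mul_assoc]
    · intro χ _
      refine Subtype.ext (funext fun x => ?_)
      simp [MonoidHom.inv_apply, mul_assoc]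
    · intro χ _
      simp only [F, map_mul, MonoidHom.inv_apply, Units.val_mul, map_inv]
      simp only [Units.val_inv_eq_inv_val, map_inv₀, hconj, inv_inv]
      have := (l g).ne_zero
      have := (l h).ne_zero
      field_simp
  by_contra hne
  exact hl ((mul_eq_right₀ hne).1 key.symm)

/-- An element on which all nonlinear characters vanish has centralizer of order the index of
the derived subgroup. -/
theorem card_centralizer_of_vanish {g : X}
    (h : ∀ χ : Cfsg.IrrCharacter X, (χ : X → ℂ) 1 ≠ 1 → (χ : X → ℂ) g = 0) :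
    Nat.card (Subgroup.centralizer ({g} : Set X)) = (commutator X).index := by
  classical
  have h2 := second_orthogonality g g
  rw [if_pos (IsConj.refl g)] at h2
  rw [← Finset.sum_filter_of_ne (p := fun χ : Cfsg.IrrCharacter X => (χ : X → ℂ) 1 = 1)
    (fun χ _ hne => by
      by_contra h1
      exact hne (by rw [h χ h1, zero_mul]))] at h2
  rw [Finset.sum_congr rfl fun (χ : Cfsg.IrrCharacter X) hχ =>
    show (χ : X → ℂ) g * conj ((χ : X → ℂ) g) = 1 by
      obtain ⟨f, hf⟩ := IsChar.exists_hom (IsIrr.isCharacter χ.2) (Finset.mem_filter.1 hχ).2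
      rw [← IsChar.inv_eq_conj (IsIrr.isCharacter χ.2), hf]
      simp,
    Finset.sum_const, nsmul_eq_mul, mul_one, Nat.cast_inj] at h2
  rw [← h2, ← card_linear, Nat.card_eq_fintype_card, Fintype.card_subtype]

/-- Nonlinear characters fixed by an automorphism vanish at the elements moved modulo the
derived subgroup. -/
theorem vanish_of_moved {σ : MulAut X}
    (hinv : ∀ χ : Cfsg.IrrCharacter X, (χ : X → ℂ) 1 ≠ 1 → ∀ x, (χ : X → ℂ) (σ x) = (χ : X → ℂ) x)
    {g : X} (hg : σ g * g⁻¹ ∉ commutator X) (χ : Cfsg.IrrCharacter X) (hχ : (χ : X → ℂ) 1 ≠ 1) :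
    (χ : X → ℂ) g = 0 := by
  classical
  have h2 := second_orthogonality g (σ g)
  rw [if_neg fun hc => ?_] at h2
  · rw [← Finset.sum_filter_add_sum_filter_not Finset.univ
      (fun χ : Cfsg.IrrCharacter X => (χ : X → ℂ) 1 = 1),
      sum_linear_eq_zero (fun e => hg (by simpa using (commutator X).inv_mem e)), zero_add,
      Finset.sum_congr rfl fun (χ : Cfsg.IrrCharacter X) hχ =>
        show (χ : X → ℂ) g * conj ((χ : X → ℂ) (σ g)) =
        (Complex.normSq ((χ : X → ℂ) g) : ℂ) by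
        rw [hinv χ (Finset.mem_filter.1 hχ).2, Complex.mul_conj],
      ← Complex.ofReal_sum, Complex.ofReal_eq_zero] at h2
    exact Complex.normSq_eq_zero.1 ((Finset.sum_eq_zero_iff_of_nonneg
      fun _ _ => Complex.normSq_nonneg _).1 h2 χ (Finset.mem_filter.2 ⟨Finset.mem_univ _, hχ⟩))
  · obtain ⟨c, hc⟩ := isConj_iff.1 hc
    refine hg ?_
    rw [← hc, ← commutatorElement_def]
    exact Subgroup.commutator_mem_commutator trivial trivial

/-- **No divisibility with a nonabelian quotient**: if some nonlinear character is trivial on a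
normal Hall subgroup of prime power index, all nonlinear degrees are equal to its degree. -/
theorem eq_deg_of_quotient_nonlinear (hnd : NoDiv X) {q k : ℕ} (hq : q.Prime) (M : Subgroup X)
    [M.Normal] (hM : (Nat.card M).Coprime q) (hidx : M.index = q ^ k) (μ : Cfsg.IrrCharacter X)
    (hμM : ∀ m ∈ M, (μ : X → ℂ) m = (μ : X → ℂ) 1) (hμ : 1 < deg μ)
    (ψ : Cfsg.IrrCharacter X) (hψ : 1 < deg ψ) : deg ψ = deg μ := by
  classical
  haveI := Fintype.ofFinite X
  haveI := Fintype.ofFinite M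
  -- the degree of `μ` is a power of `q`
  obtain ⟨i, hi⟩ : ∃ i, deg μ = q ^ i := by
    haveI := Fintype.ofFinite (X ⧸ M)
    obtain ⟨φ, hφ, he⟩ := IsIrr.exists_quotient M μ.2 hμM
    have h1 : φ 1 = (deg μ : ℂ) := by rw [← spec, he, QuotientGroup.mk_one]
    have h2 := IsIrr.degree_dvd_card hφ h1
    rw [← Subgroup.index_eq_card, hidx] at h2
    obtain ⟨i, -, hi⟩ := (Nat.dvd_prime_pow hq).1 h2
    exact ⟨i, hi⟩
  have hpow : ∀ n j, n = q ^ j → 1 < n → ∀ φ : Cfsg.IrrCharacter X, deg φ = n → deg φ = deg μ := by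
    intro n j hn hn1 φ hφ
    rcases le_total i j with hij | hij
    · exact (hnd μ φ hμ (hφ ▸ hn ▸ hi ▸ pow_dvd_pow q hij)).symm
    · exact hnd φ μ (hφ ▸ hn1) (hφ ▸ hn ▸ hi ▸ pow_dvd_pow q hij)
  obtain ⟨θ, hθ⟩ := exists_constituent_res (N := M) ψ.2
  set m := Cfsg.charDegree (θ : M → ℂ) with hm
  have hθ1 : (θ : M → ℂ) 1 = (m : ℂ) := charDegree_spec' θ
  have hmc : m ∣ Nat.card M := IsIrr.degree_dvd_card θ.2 hθ1
  have hle : M ≤ inertia (G := X) (θ : M → ℂ) := le_inertia (isClassFunction_of_isIrr θ.2)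
  set T := inertia (G := X) (θ : M → ℂ) with hT
  by_cases hlin : T.index * m = 1
  · obtain ⟨r, hr, hrd⟩ := ProjExt.exists_ratio_dvd_index ψ.2 θ.2 hθ
    rw [spec, hθ1, (mul_eq_one.1 hlin).2, Nat.cast_one, mul_one, Nat.cast_inj] at hr
    obtain ⟨j, -, hj⟩ := (Nat.dvd_prime_pow hq).1 (hidx ▸ hrd)
    exact hpow _ j (hr.trans hj) hψ ψ rfl
  haveI := Fintype.ofFinite T
  haveI := Fintype.ofFinite (M.subgroupOf T)
  -- an extension of `θ` to its inertia subgroup
  let e : M.subgroupOf T ≃* M := Subgroup.subgroupOfEquivOfLe hle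
  have hθT := (isIrrCharacter_comp_equiv e).2 θ.2
  have hinv : ∀ (g : T) (n : M.subgroupOf T),
      (θ : M → ℂ) (e ⟨g * n * g⁻¹, (inferInstance : (M.subgroupOf T).Normal).conj_mem (n : T) n.2 g⟩) =
        (θ : M → ℂ) (e n) := fun g n => by
    have h1 := congrFun (mem_inertia.1 g.2) (e n)
    rw [conjFun_apply] at h1
    exact h1
  have hTidx : (M.subgroupOf T).index ∣ q ^ k :=
    hidx ▸ Dvd.intro _ (Subgroup.relIndex_mul_index hle)
  have hcop : ∀ n, n ∣ Nat.card M → (M.subgroupOf T).index.Coprime n := fun n hn =>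
    ((Nat.Coprime.pow_left k hM.symm).coprime_dvd_left hTidx).coprime_dvd_right hn
  obtain ⟨ν, hν⟩ := ProjExt.exists_detChar_hom (IsIrr.isCharacter hθT)
  have hνinv : ∀ (g : T) (n : M.subgroupOf T),
      ν ⟨g * n * g⁻¹, (inferInstance : (M.subgroupOf T).Normal).conj_mem (n : T) n.2 g⟩ = ν n := by
    intro g n
    have h1 := congrFun (ProjExt.detChar_comp (IsIrr.isCharacter hθT)
      (MulAut.conjNormal g : MulAut (M.subgroupOf T)).toMonoidHom) n
    refine Units.ext ((congrFun hν _).symm.trans (Eq.trans ?_ (congrFun hν n)))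
    refine Eq.trans h1.symm (congrFun (congrArg Cfsg.detChar ?_) n)
    exact funext fun x => hinv g x
  have hνpow : ν ^ Nat.card M = 1 := MonoidHom.ext fun x => by
    rw [← Nat.card_congr e.toEquiv, MonoidHom.pow_apply, ← map_pow, pow_card_eq_one', map_one,
      MonoidHom.one_apply]
  obtain ⟨ν', hν', -, -⟩ := ProjExt.exists_ext_of_coprime (M.subgroupOf T) ν
    (ProjExt.orderOf_pos_hom ν) hνinv (hcop _ (orderOf_dvd_of_pow_eq_one hνpow))
  obtain ⟨η, hη, hηres⟩ := ProjExt.extends_of_det (G := T) (M.subgroupOf T) hθT hinv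
    (d := m) (by simpa using hθ1) (hcop m hmc) ν' fun n => by
      rw [hν', ← congrFun hν n]
  have hηM : ∀ x : M, η ⟨x, hle x.2⟩ = (θ : M → ℂ) x := fun x => hηres ⟨⟨x, hle x.2⟩, x.2⟩
  -- a constituent of `μ` on the inertia subgroup
  have hμT := isCharacter_res T (IsIrr.isCharacter μ.2)
  obtain ⟨μ', hμ'⟩ := exists_constituent_res (N := T) μ.2
  have hμ'M : ∀ t ∈ M.subgroupOf T, (μ' : T → ℂ) t = (μ' : T → ℂ) 1 := fun t ht =>
    IsChar.constituent_kernel hμT μ'.2 hμ' (by simpa using hμM _ ht)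
  have hresη : Cfsg.IsIrrCharacter (M.subgroupOf T) fun x : M.subgroupOf T => η x := by
    rw [show (fun x : M.subgroupOf T => η x) = fun x => (θ : M → ℂ) (e x) from funext hηres]
    exact hθT
  have hprod := isIrr_mul_of_res_irr (M.subgroupOf T) hη hresη μ'.2 hμ'M
  set b := Cfsg.charDegree (μ' : T → ℂ) with hb
  have hμ'1 : (μ' : T → ℂ) 1 = (b : ℂ) := charDegree_spec' μ'
  have hb0 : 0 < b := by
    obtain ⟨n, hn0, hn⟩ := IsIrr.degree μ'.2
    rw [hb, Blocks.charDegree_eq hn]; exact hn0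
  have hη1 : η 1 = (m : ℂ) := by rw [← hθ1]; exact hηM 1
  have hI1 := isIrr_ind_of_res M θ.2 hη one_pos (by
    rw [Nat.cast_one, one_smul]; exact funext hηM)
  have hI2 := isIrr_ind_of_res M θ.2 hprod hb0 (funext fun n => by
    rw [Pi.smul_apply, smul_eq_mul, Pi.mul_apply, hηM, hμ'M ⟨(n : X), hle n.2⟩ n.2, hμ'1])
  have hd1 : deg ⟨_, hI1⟩ = T.index * m := deg_eq (by
    show Cfsg.indFun T η 1 = _
    rw [indFun_apply_one, hη1, Nat.cast_mul])
  have hd2 : deg ⟨_, hI2⟩ = T.index * m * b := deg_eq (by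
    show Cfsg.indFun T ((μ' : T → ℂ) * η) 1 = _
    rw [indFun_apply_one, Pi.mul_apply, hη1, hμ'1]
    push_cast; ring)
  have h1d : 1 < deg ⟨_, hI1⟩ := by
    have := deg_pos ⟨_, hI1⟩
    rw [hd1] at this ⊢
    omega
  have hb1 : b = 1 := by
    have h3 := hnd ⟨_, hI1⟩ ⟨_, hI2⟩ h1d (by rw [hd1, hd2]; exact Dvd.intro b rfl)
    rw [hd1, hd2] at h3
    exact (Nat.mul_eq_left (by rw [hd1] at h1d; omega)).1 h3.symm
  -- so the degree of `μ` is at most the index of the inertia subgroup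
  have hcl : deg μ ≤ T.index := by
    obtain ⟨d, hd⟩ := IsChar.degree (IsChar.sub_constituent
      (isCharacter_indFun T (IsIrr.isCharacter μ'.2)) μ.2 (by
        rw [classInner_indFun_left _ _ (isClassFunction_of_isIrr μ.2), ← classInner_conj_symm]
        simpa using hμ'))
    rw [Pi.sub_apply, indFun_apply_one, hμ'1, hb1, Nat.cast_one, mul_one, spec] at hd
    have h4 : T.index = d + deg μ := by exact_mod_cast sub_eq_iff_eq_add.1 hd
    omega
  obtain ⟨j, -, hj⟩ := (Nat.dvd_prime_pow hq).1 (hidx ▸ Subgroup.index_dvd_of_le hle)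
  have hdvd : deg μ ∣ T.index := by
    rw [hi, hj] at hcl ⊢
    exact pow_dvd_pow q ((Nat.pow_le_pow_iff_right hq.one_lt).1 hcl)
  refine (hnd μ ψ hμ ?_).symm
  obtain ⟨c, hc⟩ := classInner_isCharacter_eq_natCast
    (isCharacter_res M (IsIrr.isCharacter ψ.2)) (IsIrr.isCharacter θ.2)
  have h5 := degree_eq_of_clifford ψ.2 θ.2 hθ
  rw [hc, spec, hθ1, ← hT, ← Nat.cast_mul, ← Nat.cast_mul, Nat.cast_inj] at h5
  rw [h5]
  exact dvd_mul_of_dvd_left (dvd_mul_of_dvd_right hdvd c) _

end Cfsg.Agent.CharNoDiv
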