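import Cfsg.Agent.CharNoDiv.Orbit
import Cfsg.Agent.FixedPointFree.Prime

/-!
# Groups with no divisibility among the nonlinear degrees: the derived subgroup is abelian

An automorphism fixing every nonlinear character and moving the abelian complement forces the
derived subgroup to be abelian, by comparing fixed point free orbit counts.
-/

set_option autoImplicit false

namespace Cfsg.Agent.CharNoDiv

open Cfsg.Agent.Char Cfsg.Agent.RelDeg
open scoped commutatorElement

universe u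

noncomputable local instance (priority := 100000) linGroupF {H : Type*} [Group H] {K : Subgroup H} :
    CommGroup (K →* ℂˣ) := MonoidHom.instCommGroup

variable {X : Type u} [Group X]

theorem mem_comm {g h : X} : g * h * g⁻¹ * h⁻¹ ∈ commutator X :=
  commutatorElement_def g h ▸ Subgroup.commutator_mem_commutator trivial trivial

theorem apply_mem_comm (τ : MulAut X) {x : X} (hx : x ∈ commutator X) : τ x ∈ commutator X := by
  have h := Subgroup.Characteristic.fixed (H := commutator X) inferInstance τ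
  rw [← h] at hx
  exact hx

/-- The restriction of an automorphism to the derived subgroup. -/
def restr (τ : MulAut X) : commutator X →* commutator X :=
  (τ.toMonoidHom.comp (commutator X).subtype).codRestrict _ fun x => apply_mem_comm τ x.2

/-- The action of an automorphism on the linear characters of the derived subgroup. -/
def act (τ : MulAut X) (l : commutator X →* ℂˣ) : commutator X →* ℂˣ := l.comp (restr τ.symm)

theorem act_one (l : commutator X →* ℂˣ) : act 1 l = l := rfl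

theorem act_mul (σ τ : MulAut X) (l : commutator X →* ℂˣ) : act (σ * τ) l = act σ (act τ l) := rfl

theorem act_hom (τ : MulAut X) (l m : commutator X →* ℂˣ) :
    act τ (l * m) = act τ l * act τ m := rfl

theorem act_iterate (τ : MulAut X) (l : commutator X →* ℂˣ) :
    ∀ k : ℕ, (act τ)^[k] l = act (τ ^ k) l
  | 0 => by rw [Function.iterate_zero_apply, pow_zero, act_one]
  | k + 1 => by rw [Function.iterate_succ_apply', act_iterate τ l k, pow_succ', act_mul]

theorem act_cj (τ : MulAut X) (b : X) (l : commutator X →* ℂˣ) :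
    act τ (cj b l) = cj (τ b) (act τ l) := by
  ext n
  show ((l _ : ℂˣ) : ℂ) = (l _ : ℂ)
  refine congrArg (fun u => ((l u : ℂˣ) : ℂ)) (Subtype.ext ?_)
  show b * τ.symm n * b⁻¹ = τ.symm (τ b * n * (τ b)⁻¹)
  simp

theorem act_conj (n : X) (l : commutator X →* ℂˣ) : act (MulAut.conj n) l = cj n⁻¹ l := by
  ext m
  show ((l _ : ℂˣ) : ℂ) = (l _ : ℂ)
  refine congrArg (fun u => ((l u : ℂˣ) : ℂ)) (Subtype.ext ?_)
  show (MulAut.conj n).symm m = n⁻¹ * m * n⁻¹⁻¹
  rw [MulAut.conj_symm_apply, inv_inv]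

/-- The situation after normalisation. -/
structure Frame (C I : Subgroup X) (τ : MulAut X) (f : ℕ) : Prop where
  compl : AbCompl (commutator X) C
  maps : ∀ b ∈ C, τ b ∈ C
  inertia : ∀ l : commutator X →* ℂˣ, l ≠ 1 → Char.inertia (lf (commutator X) l) = I
  lin : ∃ l : commutator X →* ℂˣ, l ≠ 1
  pow_f : ∀ b ∈ C, (τ ^ f) b = b
  act_f : ∀ l : commutator X →* ℂˣ, act (τ ^ f) l = l
  cop : I.index.Coprime f
  fixI : ∀ b ∈ C, b ∈ I → τ b = b
  centr : ∀ y ∈ C, τ y ≠ y → Subgroup.centralizer ({y} : Set X) = C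
  inv : ∀ χ : Cfsg.IrrCharacter X, (χ : X → ℂ) 1 ≠ 1 → ∀ x, (χ : X → ℂ) (τ x) = (χ : X → ℂ) x
  moved : ∃ b ∈ C, τ b ≠ b

variable {C I : Subgroup X} {τ : MulAut X} {f : ℕ}

theorem Frame.commutator_le (F : Frame C I τ f) : commutator X ≤ I := fun g hg => by
  obtain ⟨l, hl⟩ := F.lin
  rw [← F.inertia l hl]
  exact mem_inertia_lf.2 (cj_of_mem hg l)

theorem Frame.normal (F : Frame C I τ f) : I.Normal :=
  ⟨fun a ha g => by
    rw [show g * a * g⁻¹ = (g * a * g⁻¹ * a⁻¹) * a by group]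
    exact I.mul_mem (F.commutator_le mem_comm) ha⟩

theorem Frame.free (F : Frame C I τ f) {g : X} (hg : g ∉ I) {l : commutator X →* ℂˣ}
    (h : cj g l = l) : l = 1 := by
  by_contra hl
  exact hg (F.inertia l hl ▸ mem_inertia_lf.2 h)

theorem Frame.cj_eq (F : Frame C I τ f) {g h : X} (hgh : g * h⁻¹ ∈ I) (l : commutator X →* ℂˣ) :
    cj g l = cj h l := by
  by_cases hl : l = 1
  · subst hl; rfl
  have h1 : cj (g * h⁻¹) l = l := mem_inertia_lf.1 ((F.inertia l hl).symm ▸ hgh)
  conv_rhs => rw [← h1, cj_cj, inv_mul_cancel_right]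

/-- The subgroup of the quotients `τ b / b` on the complement. -/
def moveSub (F : Frame C I τ f) : Subgroup X where
  carrier := {y | ∃ b ∈ C, τ b * b⁻¹ = y}
  one_mem' := ⟨1, C.one_mem, by simp⟩
  mul_mem' := by
    rintro _ _ ⟨a, ha, rfl⟩ ⟨b, hb, rfl⟩
    refine ⟨a * b, C.mul_mem ha hb, ?_⟩
    rw [map_mul, mul_inv_rev]
    calc τ a * τ b * (b⁻¹ * a⁻¹) = τ a * ((τ b * b⁻¹) * a⁻¹) := by group
      _ = τ a * (a⁻¹ * (τ b * b⁻¹)) := by
          rw [F.compl.comm _ (C.mul_mem (F.maps b hb) (C.inv_mem hb)) _ (C.inv_mem ha)]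
      _ = τ a * a⁻¹ * (τ b * b⁻¹) := by group
  inv_mem' := by
    rintro _ ⟨b, hb, rfl⟩
    refine ⟨b⁻¹, C.inv_mem hb, ?_⟩
    rw [map_inv, inv_inv, mul_inv_rev, inv_inv,
      F.compl.comm _ (C.inv_mem (F.maps b hb)) _ hb]

theorem Frame.mem_moveSub (F : Frame C I τ f) {y : X} :
    y ∈ moveSub F ↔ ∃ b ∈ C, τ b * b⁻¹ = y := Iff.rfl

theorem Frame.moveSub_le (F : Frame C I τ f) : moveSub F ≤ C := by
  rintro _ ⟨b, hb, rfl⟩
  exact C.mul_mem (F.maps b hb) (C.inv_mem hb)

variable [Finite X]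

theorem Frame.pow_mem (F : Frame C I τ f) (b : X) : b ^ I.index ∈ I := by
  haveI := F.normal
  exact I.pow_index_mem b

theorem Frame.eq_one_of_fixed (F : Frame C I τ f) {y : X} (hy : y ∈ moveSub F) (hτ : τ y = y) :
    y = 1 := by
  have hyC := F.moveSub_le hy
  obtain ⟨b, hb, rfl⟩ := F.mem_moveSub.1 hy
  have hit : ∀ k : ℕ, (τ ^ k) b = (τ b * b⁻¹) ^ k * b := by
    intro k
    induction k with
    | zero => simp
    | succ k ih =>
      rw [pow_succ', MulAut.mul_apply, ih, map_mul, map_pow, hτ, pow_succ, mul_assoc _ (τ b * b⁻¹),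
        inv_mul_cancel_right]
  have h1 : (τ b * b⁻¹) ^ f = 1 := mul_eq_right.1 ((hit f).symm.trans (F.pow_f b hb))
  have h2 : (τ b * b⁻¹) ^ I.index = 1 := by
    rw [(show Commute (τ b) b⁻¹ from F.compl.comm _ (F.maps b hb) _ (C.inv_mem hb)).mul_pow,
      inv_pow, ← map_pow, F.fixI _ (C.pow_mem hb _) (F.pow_mem b), mul_inv_cancel]
  have h3 := pow_gcd_eq_one.2 ⟨h2, h1⟩
  rwa [F.cop.gcd_eq_one, pow_one] at h3

theorem Frame.eq_one_of_mem (F : Frame C I τ f) {y : X} (hy : y ∈ moveSub F) (hI : y ∈ I) :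
    y = 1 :=
  F.eq_one_of_fixed hy (F.fixI y (F.moveSub_le hy) hI)

theorem Frame.fpf (F : Frame C I τ f) {y : X} (hy : y ∈ moveSub F) (hy1 : y ≠ 1) :
    ∀ l ∈ commutator X, y * l = l * y → l = 1 := fun l hl hyl =>
  F.compl.inf l (by
    rw [← F.centr y (F.moveSub_le hy) fun h => hy1 (F.eq_one_of_fixed hy h)]
    exact Subgroup.mem_centralizer_singleton_iff.2 hyl.symm) hl

theorem Frame.finite_hom (_F : Frame C I τ f) : Finite (commutator X →* ℂˣ) :=
  Nat.finite_of_card_ne_zero (by rw [card_hom_eq_index]; exact Subgroup.index_ne_zero_of_finite)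

/-- Every nontrivial linear character has a conjugate fixed by `τ`. -/
theorem Frame.exists_fixed_conj (F : Frame C I τ f) {ν : commutator X →* ℂˣ} (hν : ν ≠ 1) :
    ∃ e ∈ C, act τ (cj e ν) = cj e ν := by
  classical
  haveI := Fintype.ofFinite X
  haveI := Fintype.ofFinite (commutator X)
  -- the orbit of `ν` is fixed
  obtain ⟨χ, hχ⟩ := exists_over (commutator X) ⟨lf (commutator X) ν, isIrrCharacter_hom ν⟩
  have hχ1 : (χ : X → ℂ) 1 ≠ 1 := by
    intro h1
    obtain ⟨l, hl⟩ := IsChar.exists_hom (IsIrr.isCharacter χ.2) h1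
    refine hχ (classInner_irr_ne ?_ (isIrrCharacter_hom ν) fun e => hν ?_)
    · rw [show (fun n : commutator X => (χ : X → ℂ) n) =
        fun n => ((l.comp (commutator X).subtype) n : ℂ) from funext fun n => by rw [hl]; rfl]
      exact isIrrCharacter_hom _
    · refine MonoidHom.ext fun n => Units.ext ?_
      have h2 := congrFun e n
      rw [hl] at h2
      simp only [lf] at h2
      rw [hom_commutator_eq_one l n.2] at h2
      exact h2.symm
  have hχ' : Cfsg.classInner (fun n : commutator X => (χ : X → ℂ) n)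
      (lf (commutator X) (act τ ν)) ≠ 0 := by
    convert hχ using 1
    simp only [Cfsg.classInner]
    congr 1
    refine Fintype.sum_bijective (restr τ.symm) ((Finite.injective_iff_bijective).1 fun a b e =>
      Subtype.ext (τ.symm.injective (congrArg Subtype.val e))) _ _ fun n => ?_
    congr 1
    conv_lhs => rw [← τ.apply_symm_apply (n : X), F.inv χ hχ1]
    rfl
  obtain ⟨g, hg⟩ := mem_orbit.1 (constituent_mem_orbit χ.2 (φ := lf (commutator X) ν)
    (η := lf (commutator X) (act τ ν)) (isIrrCharacter_hom ν) (isIrrCharacter_hom _) hχ hχ')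
  obtain ⟨b, hb, hbg⟩ := F.compl.exists_mem g
  have hbν : act τ ν = cj b ν := by
    rw [← F.cj_eq (F.commutator_le hbg) ν]
    exact (lf_inj ((conjFun_lf g ν).symm.trans hg)).symm
  -- the norm equation
  letI : CommGroup C :=
    { (inferInstance : Group C) with mul_comm := fun a b => Subtype.ext (F.compl.comm _ a.2 _ b.2) }
  let s : C →* C := (τ.toMonoidHom.comp C.subtype).codRestrict C fun x => F.maps x x.2
  let N : ℕ → C := fun k => Nat.rec 1 (fun _ a => ⟨b, hb⟩ * s a) k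
  have hN : ∀ k, (act τ)^[k] ν = cj (N k).1 ν := fun k => by
    induction k with
    | zero => rw [Function.iterate_zero_apply, show (N 0).1 = (1 : X) from rfl, cj_one']
    | succ k ih =>
      rw [Function.iterate_succ_apply', ih, act_cj, hbν, cj_cj]
      rfl
  have hNf : N f ∈ I.subgroupOf C := by
    rw [Subgroup.mem_subgroupOf, ← F.inertia ν hν, mem_inertia_lf, ← hN, act_iterate, F.act_f]
  obtain ⟨e, he⟩ := exists_norm_solution (I.subgroupOf C) s ⟨b, hb⟩ N rfl (fun i => rfl) hNf F.cop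
    fun a => Subgroup.mem_subgroupOf.2 (by rw [SubmonoidClass.coe_pow]; exact F.pow_mem _)
  refine ⟨e, e.2, ?_⟩
  rw [act_cj, hbν, cj_cj]
  exact F.cj_eq (by simpa [Subgroup.mem_subgroupOf, s] using he) ν

/-- The orbit count. -/
theorem Frame.card_le (F : Frame C I τ f) :
    Nat.card (commutator X →* ℂˣ) - 1 ≤ Nat.card (moveSub F) *
      (Nat.card {l : commutator X →* ℂˣ // act τ l = l} - 1) := by
  classical
  haveI := F.finite_hom
  have hsec : ∀ y : moveSub F, ∃ b ∈ C, τ b * b⁻¹ = y := fun y => F.mem_moveSub.1 y.2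
  choose s hsC hs using hsec
  choose e heC he using fun ν : {l : commutator X →* ℂˣ // l ≠ 1} => F.exists_fixed_conj ν.2
  let y : {l : commutator X →* ℂˣ // l ≠ 1} → moveSub F := fun ν =>
    ⟨τ (e ν) * (e ν)⁻¹, F.mem_moveSub.2 ⟨e ν, heC ν, rfl⟩⟩
  have hfix : ∀ ν, act τ (cj (s (y ν)) (ν : commutator X →* ℂˣ)) = cj (s (y ν)) ν := by
    intro ν
    have h0 : τ (s (y ν) * (e ν)⁻¹) = s (y ν) * (e ν)⁻¹ := by
      have h1 : τ (s (y ν)) * (s (y ν))⁻¹ = τ (e ν) * (e ν)⁻¹ := hs (y ν)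
      rw [mul_inv_eq_iff_eq_mul] at h1
      rw [map_mul, map_inv, h1, mul_assoc, mul_assoc,
        F.compl.comm (e ν)⁻¹ (C.inv_mem (heC ν)) _ (C.mul_mem (hsC _) (C.inv_mem (F.maps _ (heC ν)))),
        ← mul_assoc, F.compl.comm _ (F.maps _ (heC ν)) _ (C.mul_mem (hsC _)
          (C.inv_mem (F.maps _ (heC ν))))]
      group
    have h2 : cj (s (y ν)) (ν : commutator X →* ℂˣ) = cj (s (y ν) * (e ν)⁻¹) (cj (e ν) ν) := by
      rw [cj_cj]
      congr 1
      rw [F.compl.comm (e ν) (heC ν) _ (C.mul_mem (hsC _) (C.inv_mem (heC ν))), inv_mul_cancel_right]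
    rw [h2, act_cj, h0, he]
  let W := {l : commutator X →* ℂˣ // act τ l = l}
  have h1 : act τ (1 : commutator X →* ℂˣ) = 1 := rfl
  haveI := Fintype.ofFinite (commutator X →* ℂˣ)
  have hW : Nat.card {w : W // w ≠ ⟨1, h1⟩} = Nat.card W - 1 := by
    rw [Nat.card_eq_fintype_card, Nat.card_eq_fintype_card, Fintype.card_subtype_compl,
      Fintype.card_subtype_eq]
  have hV : Nat.card {l : commutator X →* ℂˣ // l ≠ 1} = Nat.card (commutator X →* ℂˣ) - 1 := by
    rw [Nat.card_eq_fintype_card, Nat.card_eq_fintype_card, Fintype.card_subtype_compl,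
      Fintype.card_subtype_eq]
  rw [← hV, ← hW, ← Nat.card_prod]
  have hne : ∀ ν, (⟨_, hfix ν⟩ : W) ≠ ⟨1, h1⟩ := fun ν h => ν.2 (by
    have h' : cj (s (y ν)) (ν : commutator X →* ℂˣ) = 1 := congrArg Subtype.val h
    have h3 := congrArg (cj (s (y ν))⁻¹) h'
    rw [cj_cj, mul_inv_cancel, cj_one'] at h3
    exact h3)
  refine Nat.card_le_card_of_injective (fun ν => (y ν, ⟨⟨_, hfix ν⟩, hne ν⟩)) fun ν ν' h => ?_
  obtain ⟨hy, hw⟩ := Prod.mk.inj h
  have h' : cj (s (y ν)) (ν : commutator X →* ℂˣ) = cj (s (y ν')) (ν' : commutator X →* ℂˣ) :=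
    congrArg (fun w : {w : W // w ≠ ⟨1, h1⟩} => ((w : W) : commutator X →* ℂˣ)) hw
  rw [hy] at h'
  have h3 := congrArg (cj (s (y ν'))⁻¹) h'
  rw [cj_cj, cj_cj, mul_inv_cancel, cj_one', cj_one'] at h3
  exact Subtype.ext h3

/-- The fixed linear characters meet their translates trivially. -/
theorem Frame.card_fixed_sq (F : Frame C I τ f) :
    Nat.card {l : commutator X →* ℂˣ // act τ l = l} ^ 2 ≤ Nat.card (commutator X →* ℂˣ) := by
  classical
  haveI := F.finite_hom
  obtain ⟨b, hb, hbτ⟩ := F.moved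
  have hy : τ b * b⁻¹ ∈ moveSub F := F.mem_moveSub.2 ⟨b, hb, rfl⟩
  rw [sq, ← Nat.card_prod]
  refine Nat.card_le_card_of_injective (fun p => p.1.1 * cj b p.2.1) fun p p' h => ?_
  have h1 : cj b ((p'.2.1 : commutator X →* ℂˣ) * p.2.1⁻¹) = p.1.1 * p'.1.1⁻¹ := by
    rw [cj_mul', cj_inv']
    have h0 : p.1.1 * cj b p.2.1 = p'.1.1 * cj b p'.2.1 := h
    rw [mul_inv_eq_iff_eq_mul, mul_comm (p.1.1) _, mul_assoc, h0, inv_mul_cancel_left]
  have hfix : ∀ (w w' : {l : commutator X →* ℂˣ // act τ l = l}),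
      act τ (w.1 * w'.1⁻¹) = w.1 * w'.1⁻¹ := fun w w' => by
    rw [act_hom, w.2]
    congr 1
    exact congrArg Inv.inv w'.2
  have h2 := congrArg (act τ) h1
  rw [act_cj, hfix, hfix, ← h1] at h2
  have hν : (p'.2.1 : commutator X →* ℂˣ) * p.2.1⁻¹ = 1 := by
    refine F.free (g := b⁻¹ * τ b) (fun hI => hbτ ?_) ?_
    · rw [F.compl.comm _ (C.inv_mem hb) _ (F.maps b hb)] at hI
      exact mul_inv_eq_one.1 (F.eq_one_of_mem hy hI)
    · have h3 := congrArg (cj b⁻¹) h2
      rw [cj_cj, cj_cj, mul_inv_cancel, cj_one',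
        F.compl.comm (τ b) (F.maps b hb) _ (C.inv_mem hb)] at h3
      exact h3
  rw [hν, show cj b (1 : commutator X →* ℂˣ) = 1 from rfl] at h1
  exact Prod.ext (Subtype.ext (mul_inv_eq_one.1 h1.symm)) (Subtype.ext (mul_inv_eq_one.1 hν).symm)

end Cfsg.Agent.CharNoDiv
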