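import Cfsg.Agent.CharNoDiv.Auto
import Cfsg.Agent.CharThreeDegrees.JustNonabelian
import Cfsg.Agent.CharArith.DegreeComponents
import Cfsg.Agent.Char.PResidualCount

/-!
# Solvable groups with no divisibility among the nonlinear degrees and disconnected degree graph
-/

set_option autoImplicit false

namespace Cfsg.Agent.CharNoDiv

open Cfsg.Agent.Char Cfsg.Agent.RelDeg
open scoped commutatorElement

universe u

variable {G : Type u} [Group G] [Finite G]

theorem mem_cd (χ : Cfsg.IrrCharacter G) : deg χ ∈ Cfsg.charDegrees G := ⟨χ, rfl⟩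

/-- Two components exclude that every prime is joined to one of them. -/
theorem not_all_reachable
    (htwo : Nat.card ((Cfsg.degreeGraph G).induce (Cfsg.degreePrimes G)).ConnectedComponent = 2)
    (r : ℕ) (h : ∀ s : Cfsg.degreePrimes G, ∃ hr : r ∈ Cfsg.degreePrimes G,
      ((Cfsg.degreeGraph G).induce (Cfsg.degreePrimes G)).Reachable s ⟨r, hr⟩) : False := by
  haveI : Subsingleton ((Cfsg.degreeGraph G).induce (Cfsg.degreePrimes G)).ConnectedComponent := by
    refine ⟨fun a b => ?_⟩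
    induction a using SimpleGraph.ConnectedComponent.ind with | _ x
    induction b using SimpleGraph.ConnectedComponent.ind with | _ y
    obtain ⟨hr, hx⟩ := h x
    obtain ⟨_, hy⟩ := h y
    exact SimpleGraph.ConnectedComponent.eq.2 (hx.trans hy.symm)
  have h1 : Nat.card ((Cfsg.degreeGraph G).induce (Cfsg.degreePrimes G)).ConnectedComponent ≤ 1 := by
    rcases isEmpty_or_nonempty
      ((Cfsg.degreeGraph G).induce (Cfsg.degreePrimes G)).ConnectedComponent with he | he
    · simp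
    · exact (Nat.card_eq_one_iff_unique.2 ⟨‹_›, he⟩).le
  omega

theorem near_reachable {s r : ℕ} (hs : s ∈ Cfsg.degreePrimes G)
    (h : DegreeComponents.Near G r s) : ∃ hr : r ∈ Cfsg.degreePrimes G,
      ((Cfsg.degreeGraph G).induce (Cfsg.degreePrimes G)).Reachable ⟨s, hs⟩ ⟨r, hr⟩ := by
  rcases h with rfl | hadj
  · exact ⟨hs, SimpleGraph.Reachable.refl _⟩
  · obtain ⟨-, -, hr, d, hd, hdd⟩ := id hadj
    exact ⟨⟨hr, d, hd, (dvd_mul_left _ _).trans hdd⟩, SimpleGraph.Adj.reachable hadj⟩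

/-- **Three degrees**: a solvable group without divisibility among its nonlinear degrees whose
degree graph has two components has exactly three degrees. -/
theorem three_degrees [Group.IsSolvable G]
    (hnd : ∀ a ∈ Cfsg.charDegrees G, ∀ b ∈ Cfsg.charDegrees G, 1 < a → a < b → ¬ a ∣ b)
    (htwo : Nat.card ((Cfsg.degreeGraph G).induce (Cfsg.degreePrimes G)).ConnectedComponent = 2) :
    Nat.card (Cfsg.charDegrees G) = 3 := by
  classical
  letI := Fintype.ofFinite G
  have hnd' : ∀ a ∈ Cfsg.charDegrees G, ∀ b ∈ Cfsg.charDegrees G, 1 < a → a ∣ b → a = b := by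
    intro a ha b hb h1 hdvd
    have hb0 : 0 < b := by obtain ⟨χ, rfl⟩ := hb; exact deg_pos χ
    rcases (Nat.le_of_dvd hb0 hdvd).eq_or_lt with h | h
    · exact h
    · exact absurd hdvd (hnd a ha b hb h1 h)
  have hab : ¬ ∀ a b : G, a * b = b * a := fun h => by
    refine not_all_reachable htwo 0 fun ⟨s, hs, d, ⟨χ, hχ⟩, hsd⟩ => False.elim (hs.ne_one ?_)
    have h1 : Cfsg.charDegree (χ : G → ℂ) = 1 :=
      deg_eq (by rw [forall_degree_one_iff.2 h χ, Nat.cast_one])
    rw [← hχ, h1] at hsd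
    exact Nat.dvd_one.1 hsd
  -- a maximal nonabelian quotient
  obtain ⟨K, hKmem, hKmax⟩ := Finset.exists_max_image
    (Finset.univ.filter fun K : Subgroup G => K.Normal ∧ ¬ commutator G ≤ K) (fun K => Nat.card K)
    ⟨⊥, Finset.mem_filter.2 ⟨Finset.mem_univ _, inferInstance, fun h => hab fun a b =>
      commutatorElement_eq_one_iff_mul_comm.1
        (Subgroup.mem_bot.1 (h (Subgroup.commutator_mem_commutator trivial trivial)))⟩⟩
  obtain ⟨-, hKn, hKc⟩ := Finset.mem_filter.1 hKmem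
  have hmapc : (commutator G).map (QuotientGroup.mk' K) = commutator (G ⧸ K) := by
    rw [commutator_def, Subgroup.map_commutator, Subgroup.map_top_of_surjective _
      (QuotientGroup.mk'_surjective K), ← commutator_def]
  have hne : commutator (G ⧸ K) ≠ ⊥ := fun h => hKc fun x hx => by
    have h1 : (QuotientGroup.mk' K) x ∈ commutator (G ⧸ K) := hmapc ▸ ⟨x, hx, rfl⟩
    rw [h, Subgroup.mem_bot] at h1
    exact (QuotientGroup.eq_one_iff x).1 h1
  have hJ : ∀ N : Subgroup (G ⧸ K), N.Normal → N ≠ ⊥ → commutator (G ⧸ K) ≤ N := fun N hN hne => by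
    by_contra hle
    have hlt : K < N.comap (QuotientGroup.mk' K) := by
      refine lt_of_le_of_ne (fun x hx => ?_) fun e => hne ?_
      · show (x : G ⧸ K) ∈ N
        rw [(QuotientGroup.eq_one_iff x).2 hx]
        exact N.one_mem
      · rw [← Subgroup.map_comap_eq_self_of_surjective (QuotientGroup.mk'_surjective K) N, ← e,
          QuotientGroup.map_mk'_self]
    have hle' := hKmax _ (Finset.mem_filter.2 ⟨Finset.mem_univ _, inferInstance, fun h => hle
      (hmapc ▸ Subgroup.map_le_iff_le_comap.2 h)⟩)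
    exact hlt.ne (Subgroup.eq_of_le_of_card_ge hlt.le hle')
  obtain ⟨q, hq, hcase⟩ := CharThreeDegrees.just_nonabelian (fun h => hne (eq_bot_iff.2 fun x hx => by
    have h2 : commutator (G ⧸ K) ≤ ⊥ := by
      rw [commutator_def, Subgroup.commutator_le]
      exact fun a _ b _ => Subgroup.mem_bot.2 (commutatorElement_eq_one_iff_mul_comm.2 (h a b))
    exact h2 hx)) inferInstance hJ
  haveI := Fact.mk hq
  rcases hcase with ⟨k, hk⟩ | ⟨hexp, -, hVtop, hqf, hsurj⟩
  · exact (not_all_reachable htwo q fun s => near_reachable s.2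
      (DegreeComponents.near_of_pgroup K (IsPGroup.of_card hk) hne s s.2)).elim
  set V := commutator (G ⧸ K) with hV
  haveI : Nontrivial V := (Subgroup.nontrivial_iff_ne_bot V).2 hne
  have hVab : ∀ a ∈ V, ∀ b ∈ V, a * b = b * a := by
    have h0 : ⁅V, V⁆ = ⊥ := by
      by_contra h
      exact not_le_of_gt (Group.IsSolvable.commutator_lt_of_ne_bot hne)
        (hJ _ (Subgroup.commutator_normal _ _) h)
    intro a ha b hb
    exact commutatorElement_eq_one_iff_mul_comm.1 (Subgroup.mem_bot.1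
      (h0 ▸ Subgroup.commutator_mem_commutator ha hb))
  have hmove : ∀ (l : V →* ℂˣ) (g : G ⧸ K), g ∉ V →
      (∀ t : V, l ⟨g * t * g⁻¹, Subgroup.Normal.conj_mem inferInstance _ t.2 g⟩ = l t) → l = 1 := by
    intro l g hg hl
    refine MonoidHom.ext fun v => ?_
    obtain ⟨w, hw, hwe⟩ := hsurj g hg v v.2
    have h1 : v = ⟨g * w * g⁻¹, Subgroup.Normal.conj_mem inferInstance _ hw g⟩ * (⟨w, hw⟩ : V)⁻¹ :=
      Subtype.ext hwe
    rw [h1, map_mul, map_inv, hl ⟨w, hw⟩, mul_inv_cancel, MonoidHom.one_apply]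
  set N := V.comap (QuotientGroup.mk' K) with hN
  letI := Fintype.ofFinite N
  have hidx : N.index = V.index :=
    Subgroup.index_comap_of_surjective _ (QuotientGroup.mk'_surjective K)
  set f := N.index with hf
  have hqf' : ¬ q ∣ f := hidx ▸ hqf
  have hf1 : 1 < f := by
    have h1 : f ≠ 1 := fun h => hVtop (Subgroup.index_eq_one.1 (hidx ▸ h))
    have h2 : f ≠ 0 := Subgroup.index_ne_zero_of_finite
    omega
  obtain ⟨a, ha⟩ : ∃ a, K.relIndex N = q ^ a := by
    obtain ⟨a, ha⟩ := (show IsPGroup q V from fun t => ⟨1, Subtype.ext (by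
      rw [pow_one]; exact hexp t t.2)⟩).exists_card_eq
    have hle : K ≤ N := fun y hy => by
      show (y : G ⧸ K) ∈ V
      rw [(QuotientGroup.eq_one_iff y).2 hy]
      exact one_mem V
    refine ⟨a, Nat.eq_of_mul_eq_mul_right (Nat.pos_of_ne_zero N.index_ne_zero_of_finite) ?_⟩
    rw [Subgroup.relIndex_mul_index hle, show N.index = V.index from hidx, ← ha, V.card_mul_index,
      Subgroup.index_eq_card]
  have hfmul : ∀ ψ : Cfsg.IrrCharacter N, ¬ q ∣ deg ψ → f * deg ψ ∈ Cfsg.charDegrees G :=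
    fun ψ hψ => DegreeComponents.index_mul_mem K V hVab hmove
      (fun u v => commutatorElement_def u v ▸ Subgroup.commutator_mem_commutator trivial trivial)
      N rfl hq ha ψ hψ
  have hfd : f ∈ Cfsg.charDegrees G := by
    have h := hfmul ⟨_, isIrrCharacter_one⟩ (by
      rw [deg_eq (n := 1) (by simp)]; exact hq.not_dvd_one)
    rwa [deg_eq (n := 1) (by simp), mul_one] at h
  have hψq : ∀ ψ : Cfsg.IrrCharacter N, 1 < deg ψ → q ∣ deg ψ := by
    intro ψ hψ
    by_contra h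
    exact hnd f hfd _ (hfmul ψ h) hf1 ((Nat.lt_mul_iff_one_lt_right (by omega)).2 hψ)
      (dvd_mul_right _ _)
  -- the three kinds of degrees
  have htri : ∀ χ : Cfsg.IrrCharacter G, deg χ = 1 ∨ deg χ = f ∨ q ∣ deg χ := by
    intro χ
    obtain ⟨ψ, k, hkd, hk, -⟩ := DegreeComponents.exists_ratio (K := N) χ
    rcases Nat.lt_or_ge 1 (deg ψ) with h | h
    · exact Or.inr (Or.inr (by rw [show deg χ = k * deg ψ from hk]; exact (hψq ψ h).mul_left k))
    have := deg_pos ψ
    have hk' : deg χ = k := by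
      rw [show deg χ = k * deg ψ from hk, show deg ψ = 1 by omega, mul_one]
    have hpos := deg_pos χ
    rcases Nat.lt_or_ge 1 (deg χ) with h' | h'
    · exact Or.inr (Or.inl (hnd' _ (mem_cd χ) f hfd h' (hk' ▸ hkd)))
    · omega
  have hcop : ∀ χ : Cfsg.IrrCharacter G, q ∣ deg χ → (deg χ).Coprime f := by
    intro χ hχ
    by_contra hnc
    obtain ⟨r, hr, hrd, hrf⟩ := Nat.Prime.not_coprime_iff_dvd.1 hnc
    have hr' : r ∈ Cfsg.degreePrimes G := ⟨hr, f, hfd, hrf⟩
    refine not_all_reachable htwo r fun ⟨s, hs⟩ => ⟨hr', ?_⟩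
    obtain ⟨hsp, d, ⟨φ, hφ⟩, hsd⟩ := id hs
    rw [← hφ] at hsd
    rcases htri φ with h | h | h
    · exact absurd (Nat.dvd_one.1 (h ▸ hsd)) hsp.ne_one
    · obtain ⟨_, h1⟩ := near_reachable hs
        (DegreeComponents.near_of_dvd hr hsp hfd (h ▸ hsd) hrf)
      exact h1
    · obtain ⟨hq', h1⟩ := near_reachable hs
        (DegreeComponents.near_of_dvd hq hsp (mem_cd φ) hsd h)
      obtain ⟨_, h2⟩ := near_reachable hq'
        (DegreeComponents.near_of_dvd hr hq (mem_cd χ) hχ hrd)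
      exact h1.trans h2
  have hres : ∀ χ : Cfsg.IrrCharacter G, q ∣ deg χ → ∃ ψ : Cfsg.IrrCharacter N,
      deg ψ = deg χ ∧ (fun n : N => (χ : G → ℂ) n) = (ψ : N → ℂ) := by
    intro χ hχ
    obtain ⟨ψ, k, hkd, hk, h0⟩ := DegreeComponents.exists_ratio (K := N) χ
    have hk1 : k = 1 := Nat.eq_one_of_dvd_coprimes (hcop χ hχ)
      (Dvd.intro (deg ψ) hk.symm) hkd
    rw [hk1, one_mul] at hk
    exact ⟨ψ, hk.symm, funext fun y => AbelianIndex.res_eq_of_degree (χ := χ) (ψ := ψ) h0 hk.le y⟩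
  have hover : ∀ ψ : Cfsg.IrrCharacter N, 1 < deg ψ → ∃ χ : Cfsg.IrrCharacter G,
      deg χ = deg ψ ∧ (fun n : N => (χ : G → ℂ) n) = (ψ : N → ℂ) := by
    intro ψ hψ
    obtain ⟨χ, hχ⟩ := exists_over N ψ
    obtain ⟨r, hr, -⟩ := ProjExt.exists_ratio_dvd_index χ.2 ψ.2 hχ
    rw [spec, spec, ← Nat.cast_mul, Nat.cast_inj] at hr
    obtain ⟨ψ', hd', hψ'⟩ := hres χ (hr ▸ (hψq ψ hψ).mul_left r)
    rw [hψ'] at hχ
    have : (ψ' : N → ℂ) = ψ := by
      by_contra hne
      exact hχ (classInner_irr_ne ψ'.2 ψ.2 hne)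
    rw [this] at hψ'
    exact ⟨χ, by rw [← hd', Subtype.ext this], hψ'⟩
  -- the hypotheses for `N`
  have hndN : NoDiv N := by
    intro φ ψ hφ hdvd
    have hψ : 1 < deg ψ := lt_of_lt_of_le hφ (Nat.le_of_dvd (deg_pos ψ) hdvd)
    obtain ⟨χ₁, h1, -⟩ := hover φ hφ
    obtain ⟨χ₂, h2, -⟩ := hover ψ hψ
    exact hnd' _ (h1 ▸ mem_cd χ₁) _ (h2 ▸ mem_cd χ₂) hφ hdvd
  obtain ⟨g, hg⟩ : ∃ g : G, g ∉ N := by
    by_contra! h
    have : N.index = 1 := Subgroup.index_eq_one.2 (eq_top_iff.2 fun x _ => h x)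
    omega
  have hinv : ∀ χ : Cfsg.IrrCharacter N, (χ : N → ℂ) 1 ≠ 1 → ∀ x,
      (χ : N → ℂ) ((MulAut.conjNormal g : MulAut N) x) = (χ : N → ℂ) x := by
    intro χ hχ x
    obtain ⟨φ, -, hφ⟩ := hover χ ((nonlinear_iff χ).1 hχ)
    rw [← hφ]
    exact isClassFunction_of_isIrr φ.2 (x : G) g
  have hinn : ∃ n : N, (MulAut.conjNormal g : MulAut N) ^ f = MulAut.conj n :=
    ⟨⟨g ^ f, N.pow_index_mem g⟩, MulEquiv.ext fun x => Subtype.ext (by
      rw [← map_pow, MulAut.conjNormal_apply]; rfl)⟩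
  have hmoved : ∃ l : N →* ℂˣ, l ^ q = 1 ∧
      ∃ x, l ((MulAut.conjNormal g : MulAut N) x) ≠ l x := by
    obtain ⟨l₀, hl₀⟩ := Char.exists_linear_ne_one (G := V)
      (Group.isSolvable_of_comm fun u v => Subtype.ext (hVab u u.2 v v.2))
    let π : N →* V := ((QuotientGroup.mk' K).comp N.subtype).codRestrict V fun x => x.2
    refine ⟨l₀.comp π, MonoidHom.ext fun x => ?_, ?_⟩
    · rw [MonoidHom.pow_apply, MonoidHom.comp_apply, ← map_pow, MonoidHom.one_apply,
        show π x ^ q = 1 from Subtype.ext (hexp _ (π x).2), map_one]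
    · by_contra! h
      refine hl₀ (hmove l₀ (g : G ⧸ K) hg fun t => ?_)
      obtain ⟨y, hy⟩ := QuotientGroup.mk_surjective (t : G ⧸ K)
      have hyN : y ∈ N := by show (y : G ⧸ K) ∈ V; rw [hy]; exact t.2
      have h1 := h ⟨y, hyN⟩
      have e1 : π ⟨y, hyN⟩ = t := Subtype.ext hy
      have e2 : π ((MulAut.conjNormal g : MulAut N) ⟨y, hyN⟩) =
          ⟨(g : G ⧸ K) * t * (g : G ⧸ K)⁻¹, Subgroup.Normal.conj_mem inferInstance _ t.2 _⟩ :=
        Subtype.ext (by
          show ((g * y * g⁻¹ : G) : G ⧸ K) = (g : G ⧸ K) * t * (g : G ⧸ K)⁻¹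
          rw [QuotientGroup.mk_mul, QuotientGroup.mk_mul, QuotientGroup.mk_inv, hy])
      rw [MonoidHom.comp_apply, MonoidHom.comp_apply, e1, e2] at h1
      exact h1
  have hall : ∀ φ ψ : Cfsg.IrrCharacter N, 1 < deg φ → 1 < deg ψ → deg φ = deg ψ := by
    have hdvd : ∀ χ : Cfsg.IrrCharacter N, Cfsg.charDegree (χ : N → ℂ) ≠ 1 →
        q ∣ Cfsg.charDegree (χ : N → ℂ) := fun χ h => hψq χ (by
      have := deg_pos χ
      exact lt_of_le_of_ne this h.symm)
    obtain ⟨k, hk⟩ : ∃ k, (Cfsg.pResidual q N).index = q ^ k := Fusion.index_pResidual_eq_pow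
    have hM := Char.not_dvd_card_pResidual hq hdvd
    by_cases hA : ∃ μ : Cfsg.IrrCharacter N,
        (∀ m ∈ Cfsg.pResidual q N, (μ : N → ℂ) m = (μ : N → ℂ) 1) ∧ 1 < deg μ
    · obtain ⟨μ, hμM, hμ⟩ := hA
      intro φ ψ hφ hψ
      have hM' := (hq.coprime_iff_not_dvd.2 hM).symm
      rw [eq_deg_of_quotient_nonlinear hndN hq _ hM' hk μ hμM hμ φ hφ,
        eq_deg_of_quotient_nonlinear hndN hq _ hM' hk μ hμM hμ ψ hψ]
    · push_neg at hA
      have hle : commutator N ≤ Cfsg.pResidual q N := by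
        have hc : ∀ a b : N ⧸ Cfsg.pResidual q N, a * b = b * a := by
          refine forall_degree_one_iff.1 fun φ => by_contra fun hne => ?_
          have h1 := hA ⟨_, isIrrCharacter_mk (Cfsg.pResidual q N) φ.2⟩ fun m hm => by
            show (φ : N ⧸ Cfsg.pResidual q N → ℂ) (QuotientGroup.mk m) =
              (φ : N ⧸ Cfsg.pResidual q N → ℂ) (QuotientGroup.mk 1)
            rw [(QuotientGroup.eq_one_iff m).2 hm]; rfl
          have h2 := (nonlinear_iff
            (⟨_, isIrrCharacter_mk (Cfsg.pResidual q N) φ.2⟩ : Cfsg.IrrCharacter N)).1 hne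
          omega
        rw [commutator_def, Subgroup.commutator_le]
        intro u _ v _
        rw [← QuotientGroup.eq_one_iff]
        exact commutatorElement_eq_one_iff_mul_comm.2 (hc u v)
      exact fun φ ψ hφ hψ => degrees_eq_of_auto hndN hq hinn hinv
        (fun χ hχ => by
          obtain ⟨φ', h1, -⟩ := hover χ hχ
          exact h1 ▸ hcop φ' (h1 ▸ hψq χ hχ))
        hmoved (fun h => hM (h.trans (Subgroup.card_dvd_of_le hle))) φ ψ hφ hψ
  -- the set of degrees
  obtain ⟨χc, hc⟩ : ∃ χ : Cfsg.IrrCharacter G, q ∣ deg χ := by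
    by_contra! h
    obtain ⟨r, hr, hrf⟩ := Nat.exists_prime_and_dvd hf1.ne'
    refine not_all_reachable htwo r fun ⟨s, hs⟩ => ?_
    obtain ⟨hsp, d, ⟨φ, hφ⟩, hsd⟩ := id hs
    rw [← hφ] at hsd
    rcases htri φ with h1 | h1 | h1
    · exact absurd (Nat.dvd_one.1 (h1 ▸ hsd)) hsp.ne_one
    · exact near_reachable hs (DegreeComponents.near_of_dvd hr hsp hfd (h1 ▸ hsd) hrf)
    · exact absurd h1 (h φ)
  have hone : 1 ∈ Cfsg.charDegrees G := ⟨⟨_, isIrrCharacter_one⟩, deg_eq (n := 1) (by simp)⟩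
  have hset : Cfsg.charDegrees G = {1, f, deg χc} := by
    refine Set.ext fun d => ⟨?_, ?_⟩
    · rintro ⟨χ, rfl⟩
      rcases htri χ with h | h | h
      · exact Or.inl h
      · exact Or.inr (Or.inl h)
      · refine Or.inr (Or.inr ?_)
        obtain ⟨ψ₁, h1, -⟩ := hres χ h
        obtain ⟨ψ₂, h2, -⟩ := hres χc hc
        have e1 := Nat.le_of_dvd (deg_pos χ) h
        have e2 := Nat.le_of_dvd (deg_pos χc) hc
        have := hq.one_lt
        exact h1.symm.trans ((hall ψ₁ ψ₂ (by omega) (by omega)).trans h2)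
    · rintro (rfl | rfl | rfl)
      exacts [hone, hfd, mem_cd χc]
  have hcf : deg χc ≠ f := fun h => hqf' (h ▸ hc)
  have hc1 : deg χc ≠ 1 := fun h => hq.not_dvd_one (h ▸ hc)
  rw [hset, Nat.card_coe_set_eq, Set.ncard_eq_three]
  exact ⟨1, f, deg χc, hf1.ne, hc1.symm, hcf.symm, rfl⟩

end Cfsg.Agent.CharNoDiv
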