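import Cfsg.Agent.CharNoDiv.Tools
import Cfsg.Agent.Char.UniqueDivisible

/-!
# Groups with no divisibility among the nonlinear degrees: characters of the derived subgroup

With an abelian complement to the derived subgroup, all nontrivial linear characters of the
derived subgroup have one inertia group and all nonlinear ones are fixed by twisting.
-/

set_option autoImplicit false

namespace Cfsg.Agent.CharNoDiv

open Cfsg.Agent.Char Cfsg.Agent.RelDeg

universe u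

noncomputable local instance (priority := 100000) linGroupO {H : Type*} [Group H] {K : Subgroup H} :
    CommGroup (K →* ℂˣ) := MonoidHom.instCommGroup

variable {X : Type u} [Group X] {L : Subgroup X} [hL : L.Normal]

theorem cj_cj (g h : X) (l : L →* ℂˣ) : cj g (cj h l) = cj (h * g) l :=
  lf_inj (by rw [← conjFun_lf, ← conjFun_lf, ← conjFun_lf, conjFun_conjFun])

theorem cj_one' (l : L →* ℂˣ) : cj 1 l = l :=
  lf_inj (by rw [← conjFun_lf, conjFun_one])

theorem cj_mul' (g : X) (l m : L →* ℂˣ) : cj g (l * m) = cj g l * cj g m := rfl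

theorem cj_inv' (g : X) (l : L →* ℂˣ) : cj g l⁻¹ = (cj g l)⁻¹ := rfl

theorem mem_inertia_lf {l : L →* ℂˣ} {g : X} : g ∈ inertia (lf L l) ↔ cj g l = l := by
  rw [mem_inertia, conjFun_lf]
  exact ⟨fun h => lf_inj h, fun h => by rw [h]⟩

theorem lf_classFun (l : L →* ℂˣ) : Cfsg.IsClassFunction L (lf L l) :=
  isClassFunction_of_isIrr (isIrrCharacter_hom l)

theorem cj_of_mem {g : X} (hg : g ∈ L) (l : L →* ℂˣ) : cj g l = l :=
  lf_inj (by rw [← conjFun_lf, conjFun_of_mem hg (lf_classFun l)])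

theorem conjFun_comm (hab : ∀ g h : X, g * h * g⁻¹ * h⁻¹ ∈ L) {φ : L → ℂ}
    (hφ : Cfsg.IsClassFunction L φ) (g h : X) :
    conjFun g (conjFun h φ) = conjFun h (conjFun g φ) := by
  rw [conjFun_conjFun, show h * g = h * g * h⁻¹ * g⁻¹ * (g * h) by group, ← conjFun_conjFun,
    conjFun_of_mem (hab h g) hφ, conjFun_conjFun]

theorem cj_comm (hab : ∀ g h : X, g * h * g⁻¹ * h⁻¹ ∈ L) (g h : X) (l : L →* ℂˣ) :
    cj g (cj h l) = cj h (cj g l) :=
  lf_inj (by
    rw [← conjFun_lf, ← conjFun_lf, ← conjFun_lf, ← conjFun_lf,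
      conjFun_comm hab (lf_classFun l)])

/-- An abelian complement to a normal subgroup. -/
structure AbCompl (L C : Subgroup X) : Prop where
  comm : ∀ a ∈ C, ∀ b ∈ C, a * b = b * a
  inf : ∀ a ∈ C, a ∈ L → a = 1
  exists_mem : ∀ x : X, ∃ b ∈ C, x * b⁻¹ ∈ L

variable [Finite X]

/-- A linear character extends to its inertia group. -/
theorem exists_extension_inertia {C : Subgroup X} (hC : AbCompl L C) (l : L →* ℂˣ) :
    ∃ μ : inertia (lf L l) →* ℂˣ, ∀ (n : L) (h : (n : X) ∈ inertia (lf L l)),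
      μ ⟨n, h⟩ = l n := by
  choose π hπC hπL using hC.exists_mem
  have hπmul : ∀ x y, π (x * y) = π x * π y := fun x y => by
    refine mul_inv_eq_one.1 (hC.inf _ (C.mul_mem (hπC _) (C.inv_mem (C.mul_mem (hπC x) (hπC y)))) ?_)
    have h1 := L.mul_mem (hL.conj_mem _ (hπL y) x) (hπL x)
    have h2 := L.mul_mem (L.inv_mem (hπL (x * y))) h1
    rw [show (x * y * (π (x * y))⁻¹)⁻¹ * (x * (y * (π y)⁻¹) * x⁻¹ * (x * (π x)⁻¹)) =
      π (x * y) * (π x * π y)⁻¹ by group] at h2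
    exact h2
  refine ⟨MonoidHom.mk' (fun t => l ⟨(t : X) * (π t)⁻¹, hπL t⟩) fun s t => ?_, fun n h => ?_⟩
  · have hst : (⟨(s * t : inertia (lf L l)) * (π (s * t : inertia (lf L l)))⁻¹, hπL _⟩ : L) =
        ⟨(s : X) * ((t : X) * (π t)⁻¹) * (s : X)⁻¹, hL.conj_mem _ (hπL t) s⟩ *
          ⟨(s : X) * (π s)⁻¹, hπL s⟩ := Subtype.ext (by
      show (s : X) * (t : X) * (π ((s : X) * t))⁻¹ = _
      rw [hπmul, mul_inv_rev]
      show _ = (s : X) * ((t : X) * (π t)⁻¹) * (s : X)⁻¹ * ((s : X) * (π s)⁻¹)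
      group)
    show l _ = l _ * l _
    rw [hst, map_mul, mul_comm]
    congr 1
    exact DFunLike.congr_fun (mem_inertia_lf.1 s.2) ⟨(t : X) * (π t)⁻¹, hπL t⟩
  · show l _ = l n
    have h1 : π n = 1 := hC.inf _ (hπC _) (by
      have := L.mul_mem (L.inv_mem (hπL n)) n.2
      simpa [mul_assoc] using this)
    exact congrArg l (Subtype.ext (show (n : X) * (π n)⁻¹ = n by rw [h1, inv_one, mul_one]))

variable [Fintype X] [Fintype L]

/-- The index of the inertia group of a linear character is a degree. -/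
theorem exists_deg_index {C : Subgroup X} (hC : AbCompl L C) (l : L →* ℂˣ) :
    ∃ χ : Cfsg.IrrCharacter X, deg χ = (inertia (lf L l)).index := by
  classical
  haveI := Fintype.ofFinite (inertia (lf L l))
  obtain ⟨μ, hμ⟩ := exists_extension_inertia hC l
  refine ⟨⟨_, isIrr_ind_of_res L (lam := lf L l) (isIrrCharacter_hom l) (isIrrCharacter_hom μ)
    one_pos ?_⟩, deg_eq ?_⟩
  · funext n
    simp [hμ, lf]
  · show Cfsg.indFun _ (fun t => (μ t : ℂ)) 1 = _
    rw [indFun_apply_one, map_one, Units.val_one, mul_one]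

/-- All nontrivial linear characters have the same inertia group. -/
theorem inertia_eq (hab : ∀ g h : X, g * h * g⁻¹ * h⁻¹ ∈ L) (hnd : NoDiv X) {C : Subgroup X}
    (hC : AbCompl L C) (htop : ∀ l : L →* ℂˣ, l ≠ 1 → inertia (lf L l) ≠ ⊤)
    {a b : L →* ℂˣ} (ha : a ≠ 1) (hb : b ≠ 1) : inertia (lf L a) = inertia (lf L b) := by
  have hle : ∀ {a b : L →* ℂˣ}, a ≠ 1 → b ≠ 1 → inertia (lf L a) ≤ inertia (lf L b) →
      inertia (lf L a) = inertia (lf L b) := by
    intro a b ha hb h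
    obtain ⟨χ, hχ⟩ := exists_deg_index hC a
    obtain ⟨ψ, hψ⟩ := exists_deg_index hC b
    have h1 : 1 < deg ψ := by
      have := deg_pos ψ
      rw [hψ] at this ⊢
      have : (inertia (lf L b)).index ≠ 1 := fun e => htop b hb (Subgroup.index_eq_one.1 e)
      omega
    have h2 := hnd ψ χ h1 (by rw [hχ, hψ]; exact Subgroup.index_dvd_of_le h)
    refine Subgroup.eq_of_le_of_card_ge h (le_of_eq ?_)
    have e1 := (inertia (lf L a)).card_mul_index
    rw [← hχ, ← h2, hψ, ← (inertia (lf L b)).card_mul_index] at e1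
    exact (Nat.eq_of_mul_eq_mul_right (Nat.pos_of_ne_zero Subgroup.index_ne_zero_of_finite) e1).symm
  by_cases hab1 : a * b = 1
  · rw [eq_inv_of_mul_eq_one_left hab1]
    ext g
    rw [mem_inertia_lf, mem_inertia_lf, cj_inv', inv_inj]
  by_contra hne
  have hfix : ∀ γ ∈ inertia (lf L (a * b)), cj γ a = a ∧ cj γ b = b := by
    intro γ hγ
    rw [mem_inertia_lf, cj_mul'] at hγ
    by_cases hρ : cj γ a * a⁻¹ = 1
    · rw [mul_inv_eq_one] at hρ
      rw [hρ, mul_right_inj] at hγ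
      exact ⟨hρ, hγ⟩
    exfalso
    refine hne ((hle ha hρ fun d hd => ?_).trans (hle hb hρ fun d hd => ?_).symm)
    · rw [mem_inertia_lf] at hd ⊢
      rw [cj_mul', cj_inv', cj_comm hab, hd]
    · rw [mem_inertia_lf] at hd ⊢
      have h3 : cj γ a * a⁻¹ = b * (cj γ b)⁻¹ := by
        rw [mul_inv_eq_iff_eq_mul, mul_comm b, mul_assoc, eq_inv_mul_iff_mul_eq, mul_comm b a,
          mul_comm]
        exact hγ
      rw [h3, cj_mul', cj_inv', cj_comm hab, hd]
  refine hne (hle ha hb ?_)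
  rw [← hle hab1 ha fun γ hγ => mem_inertia_lf.2 (hfix γ hγ).1]
  exact fun γ hγ => mem_inertia_lf.2 (hfix γ hγ).2

/-- All nonlinear characters of `L` are fixed by twisting with linear characters. -/
theorem twist_eq (hab : ∀ g h : X, g * h * g⁻¹ * h⁻¹ ∈ L) (hnd : NoDiv X) {I : Subgroup X}
    (hI : ∃ χ : Cfsg.IrrCharacter X, deg χ = I.index) (hI1 : I ≠ ⊤)
    (hfree : ∀ g ∉ I, ∀ l : L →* ℂˣ, cj g l = l → l = 1)
    (θ : Cfsg.IrrCharacter L) (hθ : (θ : L → ℂ) 1 ≠ 1) (l : L →* ℂˣ) :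
    (θ : L → ℂ) * lf L l = (θ : L → ℂ) := by
  classical
  obtain ⟨χI, hχI⟩ := hI
  have hI' : 1 < deg χI := by
    have := deg_pos χI
    rw [hχI] at this ⊢
    have : I.index ≠ 1 := fun e => hI1 (Subgroup.index_eq_one.1 e)
    omega
  have hout : ∀ φ : L → ℂ, Cfsg.IsIrrCharacter L φ → φ 1 ≠ 1 → ∃ g ∉ I, conjFun g φ = φ := by
    intro φ hφ hφ1
    by_contra! hall
    have hle : inertia φ ≤ I := fun g hg => by_contra fun h => hall g h hg
    obtain ⟨χ, hχ⟩ := exists_over L ⟨φ, hφ⟩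
    obtain ⟨e, he⟩ := classInner_isCharacter_eq_natCast
      (isCharacter_res L (IsIrr.isCharacter χ.2)) (IsIrr.isCharacter hφ)
    obtain ⟨a, ha0, ha⟩ := IsIrr.degree hφ
    have h1 := degree_eq_of_clifford χ.2 hφ hχ
    rw [he, spec, ha, ← Nat.cast_mul, ← Nat.cast_mul, Nat.cast_inj] at h1
    have hdvd : I.index ∣ (inertia φ).index := Subgroup.index_dvd_of_le hle
    have h2 := hnd χI χ hI' (by
      rw [hχI, h1]; exact dvd_mul_of_dvd_left (dvd_mul_of_dvd_right hdvd _) _)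
    obtain ⟨t, ht⟩ := hdvd
    rw [hχI, h1, ht] at h2
    have h3 : I.index * 1 = I.index * (e * t * a) := by rw [mul_one]; linarith
    exact hφ1 (by
      rw [ha, (mul_eq_one.1 (Nat.eq_of_mul_eq_mul_left
        (Nat.pos_of_ne_zero Subgroup.index_ne_zero_of_finite) h3).symm).2, Nat.cast_one])
  let K₀ : Subgroup (L →* ℂˣ) :=
    { carrier := {ρ | (θ : L → ℂ) * lf L ρ = (θ : L → ℂ)}
      one_mem' := by simp [lf_one]
      mul_mem' := fun {ρ ρ'} (h : (θ : L → ℂ) * lf L ρ = _) (h' : (θ : L → ℂ) * lf L ρ' = _) => by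
        show (θ : L → ℂ) * lf L (ρ * ρ') = _
        rw [lf_mul, ← mul_assoc, h, h']
      inv_mem' := fun {ρ} (h : (θ : L → ℂ) * lf L ρ = _) => by
        show (θ : L → ℂ) * lf L ρ⁻¹ = _
        conv_lhs => rw [← h, mul_assoc, ← lf_mul, mul_inv_cancel, lf_one, mul_one] }
  haveI : Finite (L →* ℂˣ) := Nat.finite_of_card_ne_zero (by
    rw [card_hom_eq_index]; exact Subgroup.index_ne_zero_of_finite)
  -- twists moved into `K₀` by an element fixing `θ` lie in `K₀`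
  have hK : ∀ g ∉ I, conjFun g (θ : L → ℂ) = θ → ∀ ν, cj g ν * ν⁻¹ ∈ K₀ → ν ∈ K₀ := by
    intro g hg hgθ ν hν
    have hmem : ∀ ρ : K₀, cj g (ρ : L →* ℂˣ) * (ρ : L →* ℂˣ)⁻¹ ∈ K₀ := fun ρ => by
      refine K₀.mul_mem ?_ (K₀.inv_mem ρ.2)
      show (θ : L → ℂ) * lf L (cj g ρ) = _
      rw [← conjFun_lf]
      conv_lhs => rw [← hgθ, ← RelDeg.conjFun_mul, show (θ : L → ℂ) * lf L ρ = θ from ρ.2, hgθ]
    have hinj : Function.Injective fun ρ : K₀ => (⟨_, hmem ρ⟩ : K₀) := fun ρ ρ' e => by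
      have e' : cj g (ρ : L →* ℂˣ) * (ρ : L →* ℂˣ)⁻¹ = cj g ρ' * (ρ' : L →* ℂˣ)⁻¹ :=
        congrArg Subtype.val e
      refine Subtype.ext (mul_inv_eq_one.1 (hfree g hg _ ?_))
      rw [cj_mul', cj_inv']
      rw [mul_inv_eq_iff_eq_mul] at e' ⊢
      rw [e']
      simp only [mul_assoc, mul_comm, mul_left_comm]
    obtain ⟨ρ, hρ⟩ := (Finite.injective_iff_surjective.1 hinj) ⟨_, hν⟩
    have e : cj g (ρ : L →* ℂˣ) * (ρ : L →* ℂˣ)⁻¹ = cj g ν * ν⁻¹ := congrArg Subtype.val hρ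
    have h0 := hfree g hg (ν * (ρ : L →* ℂˣ)⁻¹) (by
      rw [cj_mul', cj_inv']
      rw [mul_inv_eq_iff_eq_mul] at e ⊢
      rw [e]
      simp only [mul_assoc, mul_comm, mul_left_comm, inv_mul_cancel_left, mul_inv_cancel_left,
        inv_mul_cancel, mul_inv_cancel, mul_one])
    rw [mul_inv_eq_one] at h0
    exact h0 ▸ ρ.2
  obtain ⟨g, hg, hgθ⟩ := hout _ θ.2 hθ
  have hθl : Cfsg.IsIrrCharacter L ((θ : L → ℂ) * lf L l) := RelDeg.isIrr_mul_lf θ.2 l
  obtain ⟨h, hh, hhθ⟩ := hout _ hθl (by simpa [lf] using hθ)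
  obtain ⟨ν, hν⟩ : ∃ ν : L →* ℂˣ, conjFun h (θ : L → ℂ) = (θ : L → ℂ) * lf L ν := by
    refine ⟨l * (cj h l)⁻¹, RelDeg.mul_lf_cancel (l := cj h l) ?_⟩
    rw [mul_assoc, ← lf_mul, inv_mul_cancel_right, ← conjFun_lf, ← RelDeg.conjFun_mul]
    exact hhθ
  have hνK : ν ∈ K₀ := hK g hg hgθ ν (by
    have h1 := conjFun_comm hab (isClassFunction_of_isIrr θ.2) g h
    rw [hgθ, hν, RelDeg.conjFun_mul, hgθ, conjFun_lf] at h1
    show (θ : L → ℂ) * lf L (cj g ν * ν⁻¹) = _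
    rw [lf_mul, ← mul_assoc, h1, mul_assoc, ← lf_mul, mul_inv_cancel, lf_one, mul_one])
  rw [show (θ : L → ℂ) * lf L ν = θ from hνK] at hν
  refine hK h hh hν l ?_
  show (θ : L → ℂ) * lf L (cj h l * l⁻¹) = _
  rw [RelDeg.conjFun_mul, hν, conjFun_lf] at hhθ
  rw [lf_mul, ← mul_assoc, hhθ, mul_assoc, ← lf_mul, mul_inv_cancel, lf_one, mul_one]

end Cfsg.Agent.CharNoDiv
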