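import Cfsg.Agent.CharNoDiv.Basic
import Cfsg.Agent.Core.FrobeniusGroup

/-!
# Groups with no divisibility among the nonlinear degrees: group theoretic tools
-/

set_option autoImplicit false

namespace Cfsg.Agent.CharNoDiv

open Cfsg.Agent.Char

universe u

variable {X : Type u} [Group X] [Finite X]

/-- If the centralizer of `g` has order the index of the derived subgroup, the class of `g` is
the whole coset of the derived subgroup. -/
theorem class_eq_coset {g : X}
    (h : Nat.card (Subgroup.centralizer ({g} : Set X)) = (commutator X).index) {z : X}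
    (hz : z ∈ commutator X) : ∃ c : X, c * g * c⁻¹ = z * g := by
  haveI := Fintype.ofFinite X
  let F : {x : X // IsConj g x} → commutator X := fun x => ⟨x.1 * g⁻¹, by
    obtain ⟨c, hc⟩ := isConj_iff.1 x.2
    rw [← hc, ← commutatorElement_def]
    exact Subgroup.commutator_mem_commutator trivial trivial⟩
  have hinj : Function.Injective F := fun x y e =>
    Subtype.ext (mul_right_cancel (congrArg Subtype.val e))
  have h1 := Subgroup.card_mul_index (Subgroup.centralizer ({g} : Set X))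
  rw [h, ← (commutator X).index_mul_card] at h1
  have hcard : Nat.card {x : X // IsConj g x} = Nat.card (commutator X) := by
    rw [card_isConj_eq_index g]
    exact Nat.eq_of_mul_eq_mul_left (Nat.pos_of_ne_zero Subgroup.index_ne_zero_of_finite) h1
  obtain ⟨⟨x, hx⟩, hxz⟩ := (hinj.bijective_of_nat_card_le hcard.ge).2 ⟨z, hz⟩
  obtain ⟨c, hc⟩ := isConj_iff.1 hx
  exact ⟨c, by rw [hc, ← show x * g⁻¹ = z from congrArg Subtype.val hxz, inv_mul_cancel_right]⟩

/-- A fixed-point-free conjugation is onto on a finite invariant subgroup. -/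
theorem fpf_surjective {y : X} {Y : Subgroup X} (hinv : ∀ l ∈ Y, y * l * y⁻¹ ∈ Y)
    (hfpf : ∀ l ∈ Y, y * l = l * y → l = 1) {l : X} (hl : l ∈ Y) :
    ∃ m ∈ Y, y * m * y⁻¹ * m⁻¹ = l := by
  let F : Y → Y := fun m => ⟨y * m * y⁻¹ * (m : X)⁻¹, Y.mul_mem (hinv _ m.2) (Y.inv_mem m.2)⟩
  have hinj : Function.Injective F := fun a b e => by
    have e' : y * a * y⁻¹ * (a : X)⁻¹ = y * b * y⁻¹ * (b : X)⁻¹ := congrArg Subtype.val e
    refine Subtype.ext (inv_mul_eq_one.1 (hfpf _ (Y.mul_mem (Y.inv_mem b.2) a.2) ?_)).symm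
    calc y * ((b : X)⁻¹ * a)
        = (b : X)⁻¹ * ((b : X) * (y * b * y⁻¹)⁻¹) * (y * a * y⁻¹ * (a : X)⁻¹) * a * y := by group
      _ = (b : X)⁻¹ * ((b : X) * (y * b * y⁻¹)⁻¹) * (y * b * y⁻¹ * (b : X)⁻¹) * a * y := by rw [e']
      _ = (b : X)⁻¹ * a * y := by group
  obtain ⟨m, hm⟩ := (Finite.injective_iff_surjective.1 hinj) ⟨l, hl⟩
  exact ⟨m, m.2, congrArg Subtype.val hm⟩

omit [Finite X] in
/-- A subgroup acting freely away from one fixed point has order dividing the number of the
remaining points. -/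
theorem card_dvd_pred {U : Subgroup X} [Finite U] {A : Type*} [Finite A] (o : A) (act : U → A → A)
    (hone : ∀ a, act 1 a = a) (hmul : ∀ u v a, act (u * v) a = act u (act v a))
    (hfix : ∀ u, act u o = o) (hfree : ∀ u a, a ≠ o → act u a = a → u = 1) :
    Nat.card U ∣ Nat.card A - 1 := by
  classical
  letI : MulAction U {a : A // a ≠ o} :=
    { smul := fun u a => ⟨act u a, fun e => a.2 (by
        rw [← hone (a : A), ← inv_mul_cancel u, hmul, e, hfix])⟩
      one_smul := fun a => Subtype.ext (hone _)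
      mul_smul := fun u v a => Subtype.ext (hmul u v _) }
  have h := Core.card_dvd_of_free (A := U) (X := {a : A // a ≠ o}) fun a => eq_bot_iff.2 fun u hu =>
    Subgroup.mem_bot.2 (hfree u a a.2 (congrArg Subtype.val hu))
  haveI := Fintype.ofFinite A
  rwa [show Nat.card {a : A // a ≠ o} = Nat.card A - 1 by
    rw [Nat.card_eq_fintype_card, Nat.card_eq_fintype_card, Fintype.card_subtype_compl,
      Fintype.card_subtype_eq]] at h

/-- Solving `b * s e / e ∈ J` when the norm of `b` lies in `J`. -/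
theorem exists_norm_solution {A : Type*} [CommGroup A] (J : Subgroup A) (s : A →* A) (b : A)
    (N : ℕ → A) (h0 : N 0 = 1) (hN : ∀ i, N (i + 1) = b * s (N i)) {f c : ℕ} (hf : N f ∈ J)
    (hcop : c.Coprime f) (hpow : ∀ a : A, a ^ c ∈ J) : ∃ e : A, b * s e * e⁻¹ ∈ J := by
  set e₀ := ∏ i ∈ Finset.range f, N i with he
  have key : b ^ f * s e₀ = e₀ * N f := by
    have h1 := Finset.prod_range_succ' N f
    rw [Finset.prod_range_succ, h0, mul_one] at h1
    rw [h1, he, map_prod, Finset.prod_congr rfl fun i _ => hN i, Finset.prod_mul_distrib,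
      Finset.prod_const, Finset.card_range]
  let k := Nat.chineseRemainder hcop 1 0
  obtain ⟨m, hm⟩ := (Nat.modEq_zero_iff_dvd).1 k.2.2
  refine ⟨e₀ ^ m, ?_⟩
  have h2 : ((b ^ (k : ℕ) : A) : A ⧸ J) = (b : A ⧸ J) := by
    rw [QuotientGroup.mk_pow]
    conv_rhs => rw [← pow_one ((b : A ⧸ J))]
    refine pow_eq_pow_iff_modEq.2 (k.2.1.of_dvd (orderOf_dvd_of_pow_eq_one ?_))
    rw [← QuotientGroup.mk_pow, QuotientGroup.eq_one_iff]
    exact hpow b
  rw [← QuotientGroup.eq_one_iff, mul_assoc, QuotientGroup.mk_mul, ← h2, ← QuotientGroup.mk_mul,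
    QuotientGroup.eq_one_iff, hm, map_pow, pow_mul, ← inv_pow, ← mul_pow, ← mul_pow, ← mul_assoc,
    key, mul_right_comm, mul_inv_cancel, one_mul]
  exact pow_mem hf m

/-- The number of linear characters. -/
theorem card_hom_eq_index : Nat.card (X →* ℂˣ) = (commutator X).index := by
  rw [← card_linear]
  refine Nat.card_congr (Equiv.ofBijective
    (fun l => ⟨⟨_, isIrrCharacter_hom l⟩, by simp⟩) ⟨fun l m e => ?_, fun χ => ?_⟩)
  · exact MonoidHom.ext fun x => Units.ext
      (congrFun (congrArg (fun χ => ((χ.1 : Cfsg.IrrCharacter X) : X → ℂ)) e) x)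
  · obtain ⟨l, hl⟩ := IsChar.exists_hom (IsIrr.isCharacter χ.1.2) χ.2
    exact ⟨l, Subtype.ext (Subtype.ext hl.symm)⟩

omit [Finite X] in
/-- Inner automorphisms absorb on powers. -/
theorem exists_conj_mul_pow (σ : MulAut X) (n : X) :
    ∀ k : ℕ, ∃ m : X, (MulAut.conj n * σ) ^ k = MulAut.conj m * σ ^ k
  | 0 => ⟨1, by simp⟩
  | k + 1 => by
    obtain ⟨m, hm⟩ := exists_conj_mul_pow σ n k
    refine ⟨m * (σ ^ k) n, MulEquiv.ext fun x => ?_⟩
    rw [pow_succ, hm, pow_succ]
    simp [MulAut.mul_apply, MulAut.conj_apply, mul_assoc]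

end Cfsg.Agent.CharNoDiv
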